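import Cfsg.Agent.Lib.Recog.SuzukiThreeCC.Vectors
import Mathlib.GroupTheory.Sylow
import Mathlib.GroupTheory.GroupAction.Quotient
import Mathlib.GroupTheory.PGroup

/-!
# Self-centralizing subgroups: Hall property, automizer, conjugacy classes, congruence
-/

set_option autoImplicit false
set_option linter.all false

namespace CfsgLib.SuzukiThreeCC

open CfsgLib.CA
open scoped Classical

variable {G : Type*} [Group G] [Finite G] {A B : Subgroup G}

omit [Finite G] in
theorem commute_of_mem (hA : SelfCent A) {a b : G} (ha : a ∈ A) (hb : b ∈ A) : Commute a b :=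
  congrArg Subtype.val (CfsgLib.CA.comm hA ⟨a, ha⟩ ⟨b, hb⟩)

omit [Finite G] in
/-- Commuting with a nontrivial element of `A` means lying in `A`. -/
theorem mem_of_commute (hA : SelfCent A) {a x : G} (ha : a ∈ A) (ha1 : a ≠ 1) (hx : Commute x a) : x ∈ A :=
  (hA a ha ha1).le (Subgroup.mem_centralizer_singleton_iff.mpr hx.eq)

theorem sylow_le (hA : SelfCent A) {p : ℕ} [Fact p.Prime] (hp : p ∣ Nat.card A) :
    ∃ P : Sylow p G, (P : Subgroup G) ≤ A := by
  obtain ⟨a, ha⟩ := exists_prime_orderOf_dvd_card' p hp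
  have ha' : orderOf (a : G) = p := by rw [Subgroup.orderOf_coe]; exact ha
  have hQ : IsPGroup p (Subgroup.zpowers (a : G)) := by
    refine IsPGroup.of_card (n := 1) ?_
    rw [Nat.card_zpowers, ha', pow_one]
  obtain ⟨P, hP⟩ := hQ.exists_le_sylow
  have haP : (a : G) ∈ (P : Subgroup G) := hP (Subgroup.mem_zpowers _)
  have ha1 : (a : G) ≠ 1 := fun e => by
    rw [e, orderOf_one] at ha'
    exact (Fact.out : p.Prime).ne_one ha'.symm
  haveI : Nontrivial (P : Subgroup G) := ⟨⟨⟨a, haP⟩, 1, fun e => ha1 (congrArg Subtype.val e)⟩⟩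
  haveI := P.isPGroup'.center_nontrivial
  obtain ⟨z, hz⟩ := exists_ne (1 : Subgroup.center (P : Subgroup G))
  have hz' : ∀ x : (P : Subgroup G), x * z.1 = z.1 * x := Subgroup.mem_center_iff.mp z.2
  have hzA : ((z.1 : (P : Subgroup G)) : G) ∈ A :=
    mem_of_commute hA a.2 ha1 (congrArg Subtype.val (hz' ⟨a, haP⟩)).symm
  refine ⟨P, fun x hx => mem_of_commute hA hzA (fun e => hz (Subtype.ext (Subtype.ext e))) ?_⟩
  exact congrArg Subtype.val (hz' ⟨x, hx⟩)

/-- `A` is a Hall subgroup. -/
theorem coprime_index (hA : SelfCent A) : Nat.Coprime (Nat.card A) A.index := by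
  refine Nat.coprime_of_dvd fun p hp h1 h2 => ?_
  haveI := Fact.mk hp
  obtain ⟨P, hP⟩ := sylow_le hA h1
  exact P.not_dvd_index (h2.trans (Subgroup.index_dvd_of_le hP))

omit [Finite G] in
theorem apart_of_not_conj (hA : SelfCent A) (hB : SelfCent B)
    (h : ∀ g : G, A.map (MulAut.conj g).toMonoidHom ≠ B) : Apart A B := by
  intro g a ha ha1 hmem
  refine h g ?_
  have hb1 : g * a * g⁻¹ ≠ 1 := fun e => ha1 (conj_eq_one_iff.mp e)
  ext x
  simp only [Subgroup.mem_map, MulEquiv.coe_toMonoidHom, MulAut.conj_apply]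
  constructor
  · rintro ⟨y, hy, rfl⟩
    exact mem_of_commute hB hmem hb1
      (by simpa [Commute, SemiconjBy, mul_assoc] using congrArg (fun t => g * t * g⁻¹) (commute_of_mem hA hy ha).eq)
  · intro hx
    refine ⟨g⁻¹ * x * g, mem_of_commute hA ha ha1 ?_, by group⟩
    have h' := congrArg (fun t => g⁻¹ * t * g) (commute_of_mem hB hx hmem).eq
    simpa [Commute, SemiconjBy, mul_assoc] using h'

/-- An element with order sharing a prime with `|A|` is conjugate into `A`. -/
theorem conj_mem_of_prime_dvd (hA : SelfCent A) {q : ℕ} (hq : q.Prime) (hqA : q ∣ Nat.card A) {w : G}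
    (hqw : q ∣ orderOf w) : ∃ g : G, g * w * g⁻¹ ∈ A := by
  haveI := Fact.mk hq
  set w' := w ^ (orderOf w / q) with hw'
  have ho : orderOf w' = q := orderOf_pow_orderOf_div (orderOf_pos w).ne' hqw
  have hQ : IsPGroup q (Subgroup.zpowers w') := by
    refine IsPGroup.of_card (n := 1) ?_
    rw [Nat.card_zpowers, ho, pow_one]
  obtain ⟨P', hP'⟩ := hQ.exists_le_sylow
  obtain ⟨P, hP⟩ := sylow_le hA hqA
  obtain ⟨g, hg⟩ := MulAction.exists_smul_eq G P' P
  have hmem : g * w' * g⁻¹ ∈ A := by
    refine hP ?_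
    rw [← hg, Sylow.coe_subgroup_smul, Subgroup.mem_pointwise_smul_iff_inv_smul_mem]
    simpa [MulAut.smul_def, mul_assoc] using hP' (Subgroup.mem_zpowers w')
  have hne : g * w' * g⁻¹ ≠ 1 := fun e => by
    rw [conj_eq_one_iff] at e
    rw [e, orderOf_one] at ho
    exact hq.one_lt.ne ho
  refine ⟨g, mem_of_commute hA hmem hne ?_⟩
  have h' : Commute w w' := (Commute.refl w).pow_right _
  simpa [Commute, SemiconjBy, mul_assoc] using congrArg (fun t => g * t * g⁻¹) h'.eq

theorem coprime_of_apart (hA : SelfCent A) (hB : SelfCent B) (h : Apart A B) :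
    Nat.Coprime (Nat.card A) (Nat.card B) := by
  refine Nat.coprime_of_dvd fun p hp h1 h2 => ?_
  haveI := Fact.mk hp
  obtain ⟨a, ha⟩ := exists_prime_orderOf_dvd_card' p h1
  have ha' : orderOf (a : G) = p := by rw [Subgroup.orderOf_coe]; exact ha
  obtain ⟨g, hg⟩ := conj_mem_of_prime_dvd hB hp h2 (by rw [ha'] : p ∣ orderOf (a : G))
  exact h g a a.2 (fun e => hp.ne_one (by rw [← ha', e, orderOf_one])) hg

omit [Finite G] in
theorem relIndex_dvd_index (A : Subgroup G) : A.relIndex (Subgroup.normalizer (A : Set G)) ∣ A.index :=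
  Subgroup.relIndex_dvd_index_of_le Subgroup.le_normalizer

theorem card_normalizer (A : Subgroup G) :
    Nat.card A * A.relIndex (Subgroup.normalizer (A : Set G)) = Nat.card (Subgroup.normalizer (A : Set G)) := by
  rw [← Nat.card_congr (Subgroup.subgroupOfEquivOfLe (Subgroup.le_normalizer (H := A))).toEquiv,
    Subgroup.relIndex, Subgroup.card_mul_index]

theorem odd_card (hA : SelfCent A) (he : 2 ∣ A.relIndex (Subgroup.normalizer (A : Set G))) : Odd (Nat.card A) := by
  rw [← Nat.not_even_iff_odd, even_iff_two_dvd]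
  intro h
  exact Nat.not_coprime_of_dvd_of_dvd one_lt_two h (he.trans (relIndex_dvd_index A)) (coprime_index hA)

/-- Elements of the normalizer of order prime to the index lie in `A`. -/
theorem mem_of_coprime {g : G} (hg : g ∈ Subgroup.normalizer (A : Set G))
    (h : Nat.Coprime (orderOf g) (A.relIndex (Subgroup.normalizer (A : Set G)))) : g ∈ A := by
  set N := Subgroup.normalizer (A : Set G)
  haveI hn : (A.subgroupOf N).Normal := (Subgroup.normal_subgroupOf_iff_le_normalizer Subgroup.le_normalizer).2 le_rfl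
  set x : N := ⟨g, hg⟩
  have h1 : orderOf (QuotientGroup.mk' (A.subgroupOf N) x) ∣ orderOf g := by
    rw [← Subgroup.orderOf_mk g hg]
    exact orderOf_map_dvd _ x
  have h2 : orderOf (QuotientGroup.mk' (A.subgroupOf N) x) ∣ A.relIndex N := by
    rw [Subgroup.relIndex, Subgroup.index_eq_card]
    exact orderOf_dvd_natCard _
  have h3 := Nat.eq_one_of_dvd_coprimes h h1 h2
  rw [orderOf_eq_one_iff, QuotientGroup.mk'_apply, QuotientGroup.eq_one_iff] at h3
  exact h3

omit [Finite G] in
/-- An involution of the normalizer outside `A` inverts `A`. -/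
theorem inverts (hA : SelfCent A) {v : G} (hv : v ∈ Subgroup.normalizer (A : Set G)) (hvA : v ∉ A) (hv2 : v * v = 1)
    {a : G} (ha : a ∈ A) : v * a * v⁻¹ = a⁻¹ := by
  have hva : v * a * v⁻¹ ∈ A := (Subgroup.mem_normalizer_iff.mp hv a).mp ha
  by_contra hne
  have hb1 : a * (v * a * v⁻¹) ≠ 1 := fun e => hne (mul_eq_one_iff_inv_eq.mp e).symm
  refine hvA (mem_of_commute hA (A.mul_mem ha hva) hb1 ?_)
  have hv' : v⁻¹ = v := inv_eq_of_mul_eq_one_right hv2
  have hc := (commute_of_mem hA ha hva).eq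
  rw [hv'] at hc ⊢
  show v * (a * (v * a * v)) = a * (v * a * v) * v
  calc v * (a * (v * a * v)) = v * a * v * a * (v * v⁻¹) * v := by group
    _ = _ := by rw [mul_inv_cancel, mul_one, ← hc]

theorem exists_inverting (hA : SelfCent A) (he : 2 ∣ A.relIndex (Subgroup.normalizer (A : Set G))) :
    ∃ u, u ∈ Subgroup.normalizer (A : Set G) ∧ u ∉ A ∧ u * u = 1 := by
  haveI := Fact.mk Nat.prime_two
  have h2 : 2 ∣ Nat.card (Subgroup.normalizer (A : Set G)) := (card_normalizer A) ▸ he.mul_left _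
  obtain ⟨u, hu⟩ := exists_prime_orderOf_dvd_card' 2 h2
  refine ⟨u, u.2, fun hmem => ?_, ?_⟩
  · have h1 : orderOf (u : G) ∣ Nat.card A := by
      rw [← Subgroup.orderOf_mk (u : G) hmem]; exact orderOf_dvd_natCard _
    rw [Subgroup.orderOf_coe, hu] at h1
    exact (Nat.not_even_iff_odd.2 (odd_card hA he)) (even_iff_two_dvd.2 h1)
  · rw [← Subgroup.coe_mul, ← sq, ← hu, pow_orderOf_eq_one, Subgroup.coe_one]

omit [Finite G] in
/-- Every element of the coset is an inverting involution. -/
theorem coset_involution (hA : SelfCent A) {u b : G} (hu : u ∈ Subgroup.normalizer (A : Set G)) (huA : u ∉ A)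
    (hu2 : u * u = 1) (hb : b ∈ A) :
    u * b ∈ Subgroup.normalizer (A : Set G) ∧ u * b ∉ A ∧ u * b * (u * b) = 1 := by
  refine ⟨Subgroup.mul_mem _ hu (Subgroup.le_normalizer hb), fun h => huA ?_, ?_⟩
  · simpa using A.mul_mem h (A.inv_mem hb)
  · have h := inverts hA hu huA hu2 hb
    rw [inv_eq_of_mul_eq_one_right hu2] at h
    rw [← mul_assoc, h, inv_mul_cancel]

theorem exists_order_four (hA : SelfCent A) (he : A.relIndex (Subgroup.normalizer (A : Set G)) = 4)
    (hne : 1 < Nat.card A) : ∃ y, y ∈ Subgroup.normalizer (A : Set G) ∧ orderOf y = 4 := by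
  haveI := Fact.mk Nat.prime_two
  set N := Subgroup.normalizer (A : Set G)
  obtain ⟨Q, hQ⟩ := Sylow.exists_subgroup_card_pow_prime 2 (n := 2) (G := N)
    (by rw [← card_normalizer A, he]; exact dvd_mul_left _ _)
  by_contra hno
  push Not at hno
  have hodd := odd_card hA (by rw [he]; norm_num)
  have hord : ∀ q : Q, orderOf ((q.1 : N) : G) ∣ 4 := fun q => by
    rw [Subgroup.orderOf_coe, Subgroup.orderOf_coe]
    exact (orderOf_dvd_natCard q).trans (by rw [hQ]; norm_num)
  have hsq : ∀ q : Q, ((q.1 : N) : G) * ((q.1 : N) : G) = 1 := fun q => by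
    obtain ⟨i, hi, hio⟩ := (Nat.dvd_prime_pow Nat.prime_two).1 (show _ ∣ 2 ^ 2 from hord q)
    rw [← sq, ← orderOf_dvd_iff_pow_eq_one, hio]
    interval_cases i
    · norm_num
    · norm_num
    · exact absurd hio (hno _ q.1.2)
  have hout : ∀ q : Q, q ≠ 1 → ((q.1 : N) : G) ∉ A := fun q hq hmem => by
    have h1 : orderOf ((q.1 : N) : G) ∣ Nat.card A := by
      rw [← Subgroup.orderOf_mk ((q.1 : N) : G) hmem]; exact orderOf_dvd_natCard _
    have h2 : Nat.Coprime (Nat.card A) 4 := (Nat.Coprime.pow_right 2 hodd.coprime_two_right)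
    exact hq (Subtype.ext (Subtype.ext (orderOf_eq_one_iff.1 (Nat.eq_one_of_dvd_coprimes h2 h1 (hord q)))))
  haveI : Nontrivial Q := Finite.one_lt_card_iff_nontrivial.1 (by rw [hQ]; norm_num)
  obtain ⟨u, hu⟩ := exists_ne (1 : Q)
  obtain ⟨v, hv, hvu⟩ : ∃ v : Q, v ≠ 1 ∧ v ≠ u := by
    by_contra h
    push Not at h
    have hle : Nat.card Q ≤ 2 := by
      refine le_trans (Nat.card_le_card_of_surjective (fun i : Fin 2 => if i = 0 then (1 : Q) else u) fun q => ?_)
        (by simp)
      by_cases hq : q = 1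
      · exact ⟨0, by simp [hq]⟩
      · exact ⟨1, by simp [h q hq]⟩
    rw [hQ] at hle; norm_num at hle
  obtain ⟨a, ha1⟩ := Finite.one_lt_card_iff_nontrivial.1 hne |>.exists_pair_ne |> fun ⟨a, b, hab⟩ =>
    if ha : a = 1 then (⟨b, fun hb => hab (ha.trans hb.symm)⟩ : ∃ a : A, a ≠ 1) else ⟨a, ha⟩
  have iu := inverts hA u.1.2 (hout u hu) (hsq u) a.2
  have iv := inverts hA v.1.2 (hout v hv) (hsq v) a.2
  have huv : u * v ≠ 1 := fun e => hvu (by
    have hinv : u⁻¹ = u := inv_eq_of_mul_eq_one_right (Subtype.ext (Subtype.ext (hsq u)))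
    rw [← eq_inv_of_mul_eq_one_right e] at hinv
    exact hinv)
  have iw := inverts hA (u * v).1.2 (hout _ huv) (hsq _) a.2
  have : ((a : G)⁻¹) = a := by
    rw [← iw]
    simp only [Subgroup.coe_mul, mul_inv_rev]
    calc ((u.1 : N) : G) * ((v.1 : N) : G) * a * (((v.1 : N) : G)⁻¹ * ((u.1 : N) : G)⁻¹)
        = ((u.1 : N) : G) * (((v.1 : N) : G) * a * ((v.1 : N) : G)⁻¹) * ((u.1 : N) : G)⁻¹ := by group
      _ = a := by rw [iv, ← conj_inv, iu, inv_inv]
  have ha2 : (a : G) ^ 2 = 1 := by rw [sq]; nth_rewrite 1 [← this]; rw [inv_mul_cancel]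
  have h1 : orderOf (a : G) ∣ Nat.card A := by rw [Subgroup.orderOf_coe]; exact orderOf_dvd_natCard a
  exact ha1 (Subtype.ext (orderOf_eq_one_iff.1
    (Nat.eq_one_of_dvd_coprimes hodd.coprime_two_right h1 (orderOf_dvd_iff_pow_eq_one.2 ha2))))

theorem nine_dvd (hA : SelfCent A) (he : A.relIndex (Subgroup.normalizer (A : Set G)) = 4) (h3 : 3 ∣ Nat.card A) :
    9 ∣ Nat.card A := by
  by_contra h9
  haveI := Fact.mk Nat.prime_three
  haveI := isMulCommutative hA
  obtain ⟨a, ha⟩ := exists_prime_orderOf_dvd_card' 3 h3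
  have hne : 1 < Nat.card A := lt_of_lt_of_le (by norm_num) (Nat.le_of_dvd Nat.card_pos h3)
  obtain ⟨y, hy, hy4⟩ := exists_order_four hA he hne
  obtain ⟨P⟩ : Nonempty (Sylow 3 A) := inferInstance
  have hP : Nat.card P = 3 := by
    rw [P.card_eq_multiplicity]
    have hf : (Nat.card A).factorization 3 = 1 := by
      have h1 := (Nat.Prime.pow_dvd_iff_le_factorization Nat.prime_three Nat.card_pos.ne').1
        (by simpa using h3 : 3 ^ 1 ∣ Nat.card A)
      by_contra hf
      exact h9 ((Nat.Prime.pow_dvd_iff_le_factorization Nat.prime_three Nat.card_pos.ne' (k := 2)).2 (by omega))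
    rw [hf, pow_one]
  haveI : Subsingleton (Sylow 3 A) := by
    haveI : (P : Subgroup A).Normal := ⟨fun x hx g => by
      rw [CfsgLib.CA.comm hA g x, mul_assoc, mul_inv_cancel, mul_one]; exact hx⟩
    letI := Sylow.unique_of_normal P inferInstance
    infer_instance
  have hmem : ∀ b : A, b ^ 3 = 1 → b ∈ Subgroup.zpowers a := by
    intro b hb
    have hin : ∀ c : A, c ^ 3 = 1 → c ∈ (P : Subgroup A) := fun c hc => by
      have hc3 : IsPGroup 3 (Subgroup.zpowers c) := by
        obtain ⟨i, -, hi⟩ := (Nat.dvd_prime_pow Nat.prime_three).1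
          (show orderOf c ∣ 3 ^ 1 by rw [pow_one]; exact orderOf_dvd_of_pow_eq_one hc)
        exact IsPGroup.of_card (n := i) (by rw [Nat.card_zpowers, hi])
      obtain ⟨Q, hQ⟩ := hc3.exists_le_sylow
      rw [Subsingleton.elim Q P] at hQ
      exact hQ (Subgroup.mem_zpowers c)
    have heq : Subgroup.zpowers a = (P : Subgroup A) := Subgroup.eq_of_le_of_card_ge
      (Subgroup.zpowers_le.2 (hin a (by rw [← ha, pow_orderOf_eq_one]))) (by rw [hP, Nat.card_zpowers, ha])
    exact heq ▸ hin b hb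
  have hya : y * a * y⁻¹ ∈ A := (Subgroup.mem_normalizer_iff.mp hy a).mp a.2
  have hodd := odd_card hA (by rw [he]; norm_num)
  have hout : ∀ i, 0 < i → i < 4 → y ^ i ∉ A := fun i hi hi4 hmem => by
    have h1 : orderOf (y ^ i) ∣ Nat.card A := by
      rw [← Subgroup.orderOf_mk (y ^ i) hmem]; exact orderOf_dvd_natCard _
    have h2 : orderOf (y ^ i) ∣ 4 := hy4 ▸ orderOf_pow_dvd i
    have h3 := Nat.eq_one_of_dvd_coprimes (Nat.Coprime.pow_right 2 hodd.coprime_two_right) h1 h2
    rw [orderOf_eq_one_iff] at h3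
    exact absurd (Nat.le_of_dvd hi (hy4 ▸ orderOf_dvd_of_pow_eq_one h3)) (by omega)
  have hb : (⟨_, hya⟩ : A) ^ 3 = 1 := Subtype.ext (by
    rw [Subgroup.coe_pow, conj_pow, ← Subgroup.coe_pow, ← ha, pow_orderOf_eq_one]; simp)
  have hmem' := hmem _ hb
  have ha1 : (a : G) ≠ 1 := fun e => by
    rw [show a = 1 from Subtype.ext e, orderOf_one] at ha; omega
  rw [mem_zpowers_iff_mem_range_orderOf, ha, Finset.mem_image] at hmem'
  obtain ⟨i, hi, hi'⟩ := hmem'
  rw [Finset.mem_range] at hi
  have hi'' : (a : G) ^ i = y * a * y⁻¹ := congrArg Subtype.val hi'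
  interval_cases i
  · rw [pow_zero] at hi''
    exact ha1 (conj_eq_one_iff.mp hi''.symm)
  · rw [pow_one] at hi''
    refine hout 1 one_pos (by norm_num) ?_
    rw [pow_one]
    refine mem_of_commute hA a.2 ha1 ?_
    show y * a = a * y
    calc y * a = y * a * y⁻¹ * y := by group
      _ = a * y := by rw [← hi'']
  · refine hout 2 two_pos (by norm_num) (mem_of_commute hA a.2 ha1 ?_)
    have hinv : (a : G) ^ 2 = (a : G)⁻¹ := eq_inv_of_mul_eq_one_left (by
      have h3' : a ^ 3 = 1 := by rw [← ha]; exact pow_orderOf_eq_one a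
      rw [← pow_succ, ← Subgroup.coe_pow, show (2 : ℕ) + 1 = 3 from rfl, h3']; rfl)
    rw [hinv] at hi''
    show y ^ 2 * a = a * y ^ 2
    calc y ^ 2 * a = y * (y * a * y⁻¹) * y⁻¹ * y ^ 2 := by simp only [pow_two]; group
      _ = a * y ^ 2 := by rw [← hi'', ← conj_inv, ← hi'', inv_inv]

/-- The number of conjugates is `1` modulo the order. -/
theorem index_modEq (hA : SelfCent A)
    (hco : Nat.Coprime (Nat.card A) (A.relIndex (Subgroup.normalizer (A : Set G)))) :
    (Subgroup.normalizer (A : Set G)).index % Nat.card A = 1 % Nat.card A := by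
  set N := Subgroup.normalizer (A : Set G)
  haveI : Fintype G := Fintype.ofFinite G
  haveI : Fintype (MulAction.orbitRel.Quotient A (G ⧸ N)) := Fintype.ofFinite _
  have hfix : ∀ a : A, a ≠ 1 → Fintype.card (MulAction.fixedBy (G ⧸ N) a) = 1 := fun a ha => by
    rw [Fintype.card_eq_one_iff]
    have key : ∀ q : G ⧸ N, a • q = q ↔ q = (1 : G) := by
      intro q
      induction q using QuotientGroup.induction_on with
      | H g =>
        constructor
        · intro h
          have h' : ((a : G) * g : G ⧸ N) = (g : G ⧸ N) := h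
          rw [eq_comm, QuotientGroup.eq] at h'
          have hmem : g⁻¹ * a * g ∈ A := by
            refine mem_of_coprime (by simpa [mul_assoc] using h') ?_
            have e : orderOf (g⁻¹ * (a : G) * g) = orderOf (a : G) := by
              have := orderOf_injective (MulAut.conj g⁻¹).toMonoidHom (MulAut.conj g⁻¹).injective (a : G)
              simpa using this
            rw [e, Subgroup.orderOf_coe]
            exact hco.coprime_dvd_left (orderOf_dvd_natCard a)
          have hg : g⁻¹ ∈ N := mem_normalizer_of_conj_mem hA a.2 (fun e => ha (Subtype.ext e))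
            (by simpa using hmem)
          rw [QuotientGroup.eq]
          simpa using hg
        · intro h
          have hg : g ∈ N := by
            rw [QuotientGroup.eq] at h
            simpa using h
          show ((a : G) * g : G ⧸ N) = (g : G ⧸ N)
          rw [eq_comm, QuotientGroup.eq]
          exact N.mul_mem (N.inv_mem hg) (N.mul_mem (Subgroup.le_normalizer a.2) hg)
    exact ⟨⟨((1 : G) : G ⧸ N), (key _).2 rfl⟩, fun q => Subtype.ext ((key _).1 q.2)⟩
  have h := MulAction.sum_card_fixedBy_eq_card_orbits_mul_card_group A (G ⧸ N)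
  rw [← Finset.add_sum_erase _ _ (Finset.mem_univ (1 : A)),
    Finset.sum_congr rfl fun a ha => hfix a (Finset.ne_of_mem_erase ha), Finset.sum_const, smul_eq_mul, mul_one,
    Finset.card_erase_of_mem (Finset.mem_univ _), Finset.card_univ, ← Nat.card_eq_fintype_card,
    ← Nat.card_eq_fintype_card, ← Nat.card_eq_fintype_card] at h
  have h1 : Nat.card (MulAction.fixedBy (G ⧸ N) (1 : A)) = N.index := by
    rw [Subgroup.index_eq_card]
    exact Nat.card_congr (Equiv.subtypeUnivEquiv fun q => one_smul A q)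
  rw [h1] at h
  set n := Nat.card A
  set o := Nat.card (MulAction.orbitRel.Quotient A (G ⧸ N))
  have hn : 0 < n := Nat.card_pos
  have h2 : N.index + n = 1 + o * n := by omega
  have h3 := congrArg (· % n) h2
  simpa [Nat.add_mod_right, Nat.add_mul_mod_self_right] using h3

end CfsgLib.SuzukiThreeCC
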