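import Cfsg.Agent.Lib.Recog.SuzukiThreeCC.Table
import Mathlib.Data.Nat.ModEq
import Mathlib.Tactic.LinearCombination

/-!
# The finitely many arithmetical configurations

`sieve` rules out all cofactors `g = |G| / (n₁ n₂ n₃)` once `(n₁ - 1)/2 + (n₂ - 1)/4 + (n₃ - 1)/4 ≤ 20`.
-/

set_option autoImplicit false
set_option maxRecDepth 100000

namespace CfsgLib.SuzukiThreeCC.Sieve

/-- The prime `r` admits no automizer when there are at most `k` classes of elements of order `r`. -/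
def killed (n₁ n₂ n₃ g k r : ℕ) : Bool :=
  (List.range k).all fun j => (r - 1) % (j + 1) != 0 ||
    (g % ((r - 1) / (j + 1)) != 0 && n₁ % ((r - 1) / (j + 1)) != 0 && n₂ % ((r - 1) / (j + 1)) != 0 &&
      n₃ % ((r - 1) / (j + 1)) != 0)

/-- A valid odd prime divisor from the list. -/
def okPrime (g r : ℕ) : Bool := r % 2 == 1 && g % r == 0 && primes.contains r

/-- The certificate `(r, s)` rules out the cofactor `g`. -/
def checkG (n₁ n₂ n₃ g r s : ℕ) : Bool :=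
  decide (3 * (n₁ * n₂ * n₃) < g) || g % 4 != 0 || Nat.gcd g (n₁ * n₂ * n₃) != 1 ||
    (okPrime g r &&
      (decide (g ≤ n₁ * n₂ * n₃) || killed n₁ n₂ n₃ g 1 r || (okPrime g s && r != s)) &&
      (decide (g ≤ 2 * (n₁ * n₂ * n₃)) || decide (11 < (n₁ - 1) / 2 + (n₂ - 1) / 4 + (n₃ - 1) / 4) ||
        killed n₁ n₂ n₃ g 2 r))

/-- The triple is excluded at once. -/
def trivTriple (n₁ n₂ n₃ : ℕ) : Bool :=
  decide (20 < (n₁ - 1) / 2 + (n₂ - 1) / 4 + (n₃ - 1) / 4) || Nat.gcd n₁ n₂ != 1 || Nat.gcd n₁ n₃ != 1 ||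
    Nat.gcd n₂ n₃ != 1 || (n₂ % 3 == 0 && n₂ % 9 != 0) || (n₃ % 3 == 0 && n₃ % 9 != 0)

/-- The certificate of a triple is valid. -/
def checkRow : ℕ × ℕ × ℕ × ℕ × ℕ × ℕ × ℕ × ℕ → Bool
  | (n₁, n₂, n₃, g₀, r, s, r', s') =>
    decide (g₀ < n₁ * n₂ * n₃) && g₀ * n₂ * n₃ % n₁ == 2 && g₀ * n₁ * n₃ % n₂ == 4 && g₀ * n₁ * n₂ % n₃ == 4 &&
      checkG n₁ n₂ n₃ (g₀ + n₁ * n₂ * n₃) r s && checkG n₁ n₂ n₃ (g₀ + 2 * (n₁ * n₂ * n₃)) r' s'

theorem table_ok : table.all checkRow = true := by decide +kernel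

/-- Every admissible triple has a certificate. -/
theorem cover : (List.range 19).all (fun a => (List.range 19).all fun b => (List.range 19).all fun c =>
    decide (c ≤ b) || trivTriple (2 * a + 5) (4 * b + 9) (4 * c + 9) ||
      table.any fun row => row.1 == 2 * a + 5 && row.2.1 == 4 * b + 9 && row.2.2.1 == 4 * c + 9) = true := by
  decide +kernel

/-- The residue is determined by one congruence. -/
theorem residue_unique {n c e g g₀ : ℕ} (hc : Nat.Coprime c n) (h : g * c % n = e) (h₀ : g₀ * c % n = e) :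
    g ≡ g₀ [MOD n] :=
  Nat.ModEq.cancel_right_of_coprime (by rw [Nat.gcd_comm]; exact hc) (by rw [Nat.ModEq, h, h₀])

/-- **The sieve.** -/
theorem sieve {n₁ n₂ n₃ g k : ℕ} (hlt : n₂ < n₃) (o₁ : n₁ % 2 = 1) (o₂ : n₂ % 4 = 1) (o₃ : n₃ % 4 = 1)
    (h₁ : 5 ≤ n₁) (h₂ : 9 ≤ n₂) (h₁₂ : Nat.Coprime n₁ n₂) (h₁₃ : Nat.Coprime n₁ n₃) (h₂₃ : Nat.Coprime n₂ n₃)
    (t₂ : 3 ∣ n₂ → 9 ∣ n₂) (t₃ : 3 ∣ n₃ → 9 ∣ n₃)
    (hS : (n₁ - 1) / 2 + (n₂ - 1) / 4 + (n₃ - 1) / 4 ≤ 20) (hk : k = 1 ∨ k = 2)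
    (hk2 : k = 2 → (n₁ - 1) / 2 + (n₂ - 1) / 4 + (n₃ - 1) / 4 ≤ 11)
    (hlo : k * (n₁ * n₂ * n₃) < g) (hhi : g ≤ 3 * (n₁ * n₂ * n₃)) (h4 : g % 4 = 0)
    (hg : Nat.Coprime g (n₁ * n₂ * n₃))
    (c₁ : g * n₂ * n₃ % n₁ = 2) (c₂ : g * n₁ * n₃ % n₂ = 4) (c₃ : g * n₁ * n₂ % n₃ = 4)
    (hpair : ∀ r s : ℕ, r.Prime → s.Prime → r ≠ s → Odd r → Odd s → r ∣ g → s ∣ g → k = 2)
    (hprime : ∀ r : ℕ, r.Prime → Odd r → r ∣ g →
      ∃ d, d ∣ r - 1 ∧ r - 1 ≤ k * d ∧ (d ∣ g ∨ d ∣ n₁ ∨ d ∣ n₂ ∨ d ∣ n₃)) : False := by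
  obtain ⟨a, rfl⟩ : ∃ a, n₁ = 2 * a + 5 := ⟨(n₁ - 5) / 2, by omega⟩
  obtain ⟨b, rfl⟩ : ∃ b, n₂ = 4 * b + 9 := ⟨(n₂ - 9) / 4, by omega⟩
  obtain ⟨c, rfl⟩ : ∃ c, n₃ = 4 * c + 9 := ⟨(n₃ - 9) / 4, by omega⟩
  have hcov := cover
  simp only [List.all_eq_true, List.mem_range, Bool.or_eq_true, decide_eq_true_eq] at hcov
  rcases hcov a (by omega) b (by omega) c (by omega) with (h | h) | h
  · omega
  · simp only [trivTriple, Bool.or_eq_true, Bool.and_eq_true, decide_eq_true_eq, bne_iff_ne, beq_iff_eq] at h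
    rcases h with ((((h | h) | h) | h) | h) | h
    · omega
    · exact h h₁₂
    · exact h h₁₃
    · exact h h₂₃
    · exact h.2 (Nat.mod_eq_zero_of_dvd (t₂ (Nat.dvd_of_mod_eq_zero h.1)))
    · exact h.2 (Nat.mod_eq_zero_of_dvd (t₃ (Nat.dvd_of_mod_eq_zero h.1)))
  rw [List.any_eq_true] at h
  obtain ⟨⟨m₁, m₂, m₃, g₀, r, s, r', s'⟩, hmem, hrow⟩ := h
  simp only [Bool.and_eq_true, beq_iff_eq] at hrow
  obtain ⟨⟨rfl, rfl⟩, rfl⟩ := hrow
  have hchk := List.all_eq_true.1 table_ok _ hmem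
  simp only [checkRow, Bool.and_eq_true, beq_iff_eq, decide_eq_true_eq] at hchk
  obtain ⟨⟨⟨⟨⟨hg₀, d₁⟩, d₂⟩, d₃⟩, hG1⟩, hG2⟩ := hchk
  set N₁ := 2 * a + 5 with hN₁
  set N₂ := 4 * b + 9 with hN₂
  set N₃ := 4 * c + 9 with hN₃
  have e₁ : g ≡ g₀ [MOD N₁] := residue_unique (c := N₂ * N₃) (e := 2) (Nat.Coprime.mul_left h₁₂.symm h₁₃.symm)
    (by rw [← mul_assoc]; exact c₁) (by rw [← mul_assoc]; exact d₁)
  have e₂ : g ≡ g₀ [MOD N₂] := residue_unique (c := N₁ * N₃) (e := 4) (Nat.Coprime.mul_left h₁₂ h₂₃.symm)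
    (by rw [← mul_assoc]; exact c₂) (by rw [← mul_assoc]; exact d₂)
  have e₃ : g ≡ g₀ [MOD N₃] := residue_unique (c := N₁ * N₂) (e := 4) (Nat.Coprime.mul_left h₁₃ h₂₃)
    (by rw [← mul_assoc]; exact c₃) (by rw [← mul_assoc]; exact d₃)
  have eM : g ≡ g₀ [MOD N₁ * N₂ * N₃] :=
    (Nat.modEq_and_modEq_iff_modEq_mul (Nat.Coprime.mul_left h₁₃ h₂₃)).1
      ⟨(Nat.modEq_and_modEq_iff_modEq_mul h₁₂).1 ⟨e₁, e₂⟩, e₃⟩
  set M := N₁ * N₂ * N₃ with hM
  have hg₀' : g % M = g₀ := by rw [eM]; exact Nat.mod_eq_of_lt hg₀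
  have hgM : M < g := lt_of_le_of_lt (Nat.le_mul_of_pos_left M (by omega)) hlo
  have hcase : g = g₀ + M ∨ g = g₀ + 2 * M := by
    have h1 := Nat.mod_add_div g M
    rw [hg₀'] at h1
    have hq : g / M = 1 ∨ g / M = 2 := by
      have hMpos : 0 < M := by omega
      have l1 : 1 ≤ g / M := (Nat.one_le_div_iff hMpos).2 hgM.le
      have l2 : g / M ≤ 3 := (Nat.div_le_iff_le_mul_add_pred hMpos).2 (by omega)
      rcases (show g / M = 1 ∨ g / M = 2 ∨ g / M = 3 by omega) with e | e | e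
      · exact Or.inl e
      · exact Or.inr e
      · exfalso
        rw [e] at h1
        have hz : g₀ = 0 := by omega
        have hMg : M ∣ g := ⟨3, by omega⟩
        have h5 : M = 1 := Nat.Coprime.eq_one_of_dvd (hg.symm) hMg
        omega
    rcases hq with e | e <;> rw [e] at h1
    · exact Or.inl (by omega)
    · exact Or.inr (by omega)
  have key : ∀ r s : ℕ, checkG N₁ N₂ N₃ g r s = true → False := by
    intro r s hc
    simp only [checkG, okPrime, Bool.or_eq_true, Bool.and_eq_true, decide_eq_true_eq, bne_iff_ne, beq_iff_eq,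
      List.contains_iff_mem] at hc
    rcases hc with ((hc | hc) | hc) | hc
    · omega
    · exact hc h4
    · exact hc hg
    obtain ⟨⟨⟨⟨hr2, hrg⟩, hrp⟩, hk1⟩, hk2'⟩ := hc
    have hr : r.Prime := prime_of_mem r hrp
    have hrodd : Odd r := Nat.odd_iff.2 hr2
    obtain ⟨d, hd, hdk, hdg⟩ := hprime r hr hrodd (Nat.dvd_of_mod_eq_zero hrg)
    obtain ⟨q, hq⟩ := hd
    have hr1 : 0 < r - 1 := by have := hr.two_le; omega
    have hq0 : 0 < q := Nat.pos_of_ne_zero fun e => by rw [e, mul_zero] at hq; omega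
    have hd0 : 0 < d := Nat.pos_of_ne_zero fun e => by rw [e, zero_mul] at hq; omega
    have hqk : q ≤ k := Nat.le_of_mul_le_mul_left (by rw [← hq, mul_comm d k]; exact hdk) hd0
    have hnot : killed N₁ N₂ N₃ g k r = true → False := by
      intro hkill
      simp only [killed, List.all_eq_true, List.mem_range, Bool.or_eq_true, Bool.and_eq_true, bne_iff_ne] at hkill
      have hdiv : (r - 1) / (q - 1 + 1) = d := by
        rw [Nat.sub_add_cancel hq0, hq, Nat.mul_div_cancel _ hq0]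
      rcases hkill (q - 1) (by omega) with h | ⟨⟨⟨h0, h1⟩, h2⟩, h3⟩
      · exact h (by rw [Nat.sub_add_cancel hq0, hq, Nat.mul_mod_left])
      · rw [hdiv] at h0 h1 h2 h3
        rcases hdg with h | h | h | h
        exacts [h0 (Nat.mod_eq_zero_of_dvd h), h1 (Nat.mod_eq_zero_of_dvd h), h2 (Nat.mod_eq_zero_of_dvd h),
          h3 (Nat.mod_eq_zero_of_dvd h)]
    rcases hk with rfl | rfl
    · rcases hk1 with (h | h) | h
      · omega
      · exact hnot h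
      · obtain ⟨⟨⟨hs2, hsg⟩, hsp⟩, hne⟩ := h
        have := hpair r s hr (prime_of_mem s hsp) hne hrodd (Nat.odd_iff.2 hs2) (Nat.dvd_of_mod_eq_zero hrg)
          (Nat.dvd_of_mod_eq_zero hsg)
        omega
    · rcases hk2' with (h | h) | h
      · omega
      · exact absurd (hk2 rfl) (by omega)
      · exact hnot h
  rcases hcase with e | e
  · exact key r s (e ▸ hG1)
  · exact key r' s' (e ▸ hG2)

end CfsgLib.SuzukiThreeCC.Sieve
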