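import Cfsg.Agent.Lib.Recog.SuzukiThreeCC.Count
import Cfsg.Agent.Lib.Recog.SuzukiThreeCC.Sieve
import Mathlib.GroupTheory.Subgroup.Centralizer
import Mathlib.RingTheory.ZMod.UnitsCyclic

/-!
# The centralizers of involutions are `2`-groups

Otherwise there are five classes outside the tori, hence a character vanishing on all tori, hence the small
configurations of `CfsgLib.SuzukiThreeCC.Sieve`.
-/

set_option autoImplicit false
set_option linter.all false

namespace CfsgLib.SuzukiThreeCC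

open CfsgLib.CA
open scoped Classical

variable {G : Type*} [Group G] [Fintype G]

theorem orderOf_eq_of_mk_eq {x y : G} (h : ConjClasses.mk x = ConjClasses.mk y) : orderOf x = orderOf y := by
  obtain ⟨c, rfl⟩ := isConj_iff.mp (ConjClasses.mk_eq_mk_iff_isConj.mp h)
  exact (orderOf_injective (MulAut.conj c).toMonoidHom (MulAut.conj c).injective x).symm

theorem not_mem_torusClasses {A : Subgroup G} {x : G} (h : x = 1 ∨ ¬ orderOf x ∣ Nat.card A) :
    ConjClasses.mk x ∉ torusClasses A := by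
  intro hx
  obtain ⟨y, hy, hxy⟩ := Finset.mem_image.1 hx
  rcases h with rfl | h
  · exact (mem_torus.1 hy).1 (orderOf_eq_one_iff.1 (by rw [orderOf_eq_of_mk_eq hxy, orderOf_one]))
  · exact h (orderOf_eq_of_mk_eq hxy ▸ orderOf_dvd_of_mem_torus hy)

theorem orderOf_dvd_of_prime_dvd {A : Subgroup G} (hA : SelfCent A) {q : ℕ} (hq : q.Prime) (hqA : q ∣ Nat.card A)
    {w : G} (hqw : q ∣ orderOf w) : orderOf w ∣ Nat.card A := by
  obtain ⟨g, hg⟩ := conj_mem_of_prime_dvd hA hq hqA hqw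
  have := orderOf_dvd_natCard (⟨_, hg⟩ : A)
  rw [Subgroup.orderOf_mk] at this
  rwa [show g * w * g⁻¹ = (MulAut.conj g).toMonoidHom w from rfl, orderOf_injective _ (MulAut.conj g).injective] at this

/-- An odd-order element commuting with an involution has order prime to `|A|`. -/
theorem coprime_of_commute {A : Subgroup G} (hA : SelfCent A) (hodd : Odd (Nat.card A)) {t x : G}
    (ht : orderOf t = 2) (hx : Commute t x) {r : ℕ} (hr : r.Prime) (hxr : orderOf x = r) : ¬ r ∣ Nat.card A := by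
  intro hrA
  obtain ⟨g, hg⟩ := conj_mem_of_prime_dvd hA hr hrA (by rw [hxr] : r ∣ orderOf x)
  have hne : g * x * g⁻¹ ≠ 1 := fun e => by
    rw [conj_eq_one_iff] at e
    rw [e, orderOf_one] at hxr
    exact hr.one_lt.ne hxr
  have hmem : g * t * g⁻¹ ∈ A := mem_of_commute hA hg hne
    (by simpa [Commute, SemiconjBy, mul_assoc] using congrArg (fun s => g * s * g⁻¹) hx.eq)
  have h1 := orderOf_dvd_natCard (⟨_, hmem⟩ : A)
  rw [Subgroup.orderOf_mk, show g * t * g⁻¹ = (MulAut.conj g).toMonoidHom t from rfl,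
    orderOf_injective _ (MulAut.conj g).injective, ht] at h1
  exact (Nat.not_even_iff_odd.2 hodd) (even_iff_two_dvd.2 h1)

/-- The automizer of a subgroup of prime order: `d` divides `r - 1` and the order of some element, and `r - 1` is
at most `d` times the number of classes meeting the subgroup. -/
theorem exists_automizer {x : G} {r : ℕ} (hr : r.Prime) (hx : orderOf x = r) :
    ∃ d : ℕ, ∃ C : Finset (ConjClasses G), d ∣ r - 1 ∧ (∃ w : G, d ∣ orderOf w) ∧ r - 1 ≤ C.card * d ∧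
      ∀ c ∈ C, ∃ b : G, orderOf b = r ∧ ConjClasses.mk b = c := by
  haveI := Fact.mk hr
  set P := Subgroup.zpowers x
  have hP : Nat.card P = r := by rw [Nat.card_zpowers, hx]
  haveI hcyc : IsCyclic (MulAut P) := by
    have : IsCyclic (ZMod (Nat.card P))ˣ := by rw [hP]; infer_instance
    exact (IsCyclic.mulAutMulEquiv P).isCyclic.2 this
  haveI : Finite (MulAut P) := Finite.of_injective _ DFunLike.coe_injective
  set φ := P.normalizerMonoidHom
  obtain ⟨⟨σ, w, rfl⟩, hσ⟩ := IsCyclic.exists_generator (α := φ.range)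
  refine ⟨Nat.card φ.range, (Finset.univ.filter fun b : G => b ∈ P ∧ b ≠ 1).image ConjClasses.mk, ?_, ⟨w, ?_⟩, ?_, ?_⟩
  · have := Subgroup.card_subgroup_dvd_card φ.range
    rwa [IsCyclic.card_mulAut, hP, Nat.totient_prime hr] at this
  · rw [← orderOf_eq_card_of_forall_mem_zpowers hσ, ← Subgroup.orderOf_coe]
    exact (orderOf_map_dvd φ w).trans (by rw [Subgroup.orderOf_coe])
  · set U := Finset.univ.filter fun b : G => b ∈ P ∧ b ≠ 1 with hU
    have hcard : U.card = r - 1 := by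
      have e : U = (Finset.univ.filter fun b : G => b ∈ P).erase 1 := by
        ext b; simp [hU, and_comm]
      rw [e, Finset.card_erase_of_mem (by simp), ← hP, Nat.card_eq_fintype_card, ← Fintype.card_subtype]
    rw [← hcard, mul_comm]
    refine Finset.card_le_mul_card_image U _ fun c hc => ?_
    obtain ⟨b₀, hb₀, rfl⟩ := Finset.mem_image.1 hc
    simp only [hU, Finset.mem_filter, Finset.mem_univ, true_and] at hb₀
    rw [Nat.card_eq_fintype_card, ← Finset.card_univ]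
    refine le_trans (Finset.card_le_card
      (t := Finset.univ.image fun α : φ.range => (((α : MulAut P) ⟨b₀, hb₀.1⟩ : P) : G)) fun b hb => ?_) Finset.card_image_le
    rw [Finset.mem_filter] at hb
    simp only [hU, Finset.mem_filter, Finset.mem_univ, true_and] at hb
    obtain ⟨c, hc⟩ := isConj_iff.mp (ConjClasses.mk_eq_mk_iff_isConj.mp hb.2.symm)
    have hgen : ∀ {z : G}, z ∈ P → z ≠ 1 → Subgroup.zpowers z = P := fun {z} hz hz1 =>
      Subgroup.eq_of_le_of_card_ge (Subgroup.zpowers_le.2 hz) (by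
        have h1 : orderOf z ∣ r := by
          have := orderOf_dvd_natCard (⟨z, hz⟩ : P)
          rwa [Subgroup.orderOf_mk, hP] at this
        rcases (Nat.dvd_prime hr).1 h1 with e | e
        · exact absurd (orderOf_eq_one_iff.1 e) hz1
        · rw [hP, Nat.card_zpowers, e])
    have hmap : P.map (MulAut.conj c).toMonoidHom = P := by
      conv_lhs => rw [← hgen hb₀.1 hb₀.2]
      rw [MonoidHom.map_zpowers, MulEquiv.coe_toMonoidHom, MulAut.conj_apply, hc, hgen hb.1.1 hb.1.2]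
    have hcN : c ∈ Subgroup.normalizer (P : Set G) := by
      rw [Subgroup.mem_normalizer_iff]
      intro z
      constructor
      · intro hz; rw [← hmap]; exact ⟨z, hz, rfl⟩
      · intro hz
        rw [← hmap] at hz
        obtain ⟨z', hz', he⟩ := hz
        simp only [MulEquiv.coe_toMonoidHom, MulAut.conj_apply, mul_left_inj, mul_right_inj] at he
        exact he ▸ hz'
    refine Finset.mem_image.2 ⟨⟨φ ⟨c, hcN⟩, ⟨_, rfl⟩⟩, Finset.mem_univ _, ?_⟩
    rw [← hc]; rfl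
  · intro c hc
    obtain ⟨b, hb, rfl⟩ := Finset.mem_image.1 hc
    simp only [Finset.mem_filter, Finset.mem_univ, true_and] at hb
    refine ⟨b, ?_, rfl⟩
    have := orderOf_dvd_natCard (⟨b, hb.1⟩ : P)
    rw [Subgroup.orderOf_mk, hP] at this
    exact ((Nat.dvd_prime hr).1 this).resolve_left fun e => hb.2 (orderOf_eq_one_iff.1 e)

/-- Arithmetic data of the configuration. -/
theorem residue {A : Subgroup G} (hA : SelfCent A) {e : ℕ}
    (he : A.relIndex (Subgroup.normalizer (A : Set G)) = e) (h2 : 2 ∣ e) (hlt : e < Nat.card A) (he4 : e ∣ 4)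
    {g m : ℕ} (hG : Nat.card G = g * (Nat.card A * m)) : g * m % Nat.card A = e := by
  have hodd := odd_card hA (he ▸ h2)
  have hco : Nat.Coprime (Nat.card A) e :=
    (show Nat.Coprime (Nat.card A) (2 ^ 2) from hodd.coprime_two_right.pow_right 2).coprime_dvd_right he4
  have h1 := index_modEq hA (he.symm ▸ hco)
  have h3 := Subgroup.card_mul_index (Subgroup.normalizer (A : Set G))
  rw [← card_normalizer A, he, hG] at h3
  have h4 : g * m = e * (Subgroup.normalizer (A : Set G)).index :=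
    Nat.eq_of_mul_eq_mul_left (Nat.card_pos (α := A)) (by linarith)
  rw [h4, Nat.mul_mod, h1, ← Nat.mul_mod, mul_one, Nat.mod_eq_of_lt hlt]

/-- **CIT.** -/
theorem isPGroup_centralizer {A₁ A₂ A₃ : Subgroup G} (h₁ : SelfCent A₁) (h₂ : SelfCent A₂) (h₃ : SelfCent A₃)
    (a₁₂ : Apart A₁ A₂) (a₁₃ : Apart A₁ A₃) (a₂₃ : Apart A₂ A₃)
    (e₁ : A₁.relIndex (Subgroup.normalizer (A₁ : Set G)) = 2)
    (e₂ : A₂.relIndex (Subgroup.normalizer (A₂ : Set G)) = 4)
    (e₃ : A₃.relIndex (Subgroup.normalizer (A₃ : Set G)) = 4)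
    (hn₁ : 5 ≤ Nat.card A₁) (hn₂ : 5 < Nat.card A₂) (hn₃ : 5 < Nat.card A₃)
    (hord : Nat.card G ≤ 3 * (Nat.card A₁ * Nat.card A₂ * Nat.card A₃) ^ 2)
    {t : G} (ht : orderOf t = 2) : IsPGroup 2 (Subgroup.centralizer ({t} : Set G)) := by
  by_contra hnot
  obtain ⟨r₀, hr₀, hr₀2, hr₀d⟩ : ∃ r : ℕ, r.Prime ∧ r ≠ 2 ∧ r ∣ Nat.card (Subgroup.centralizer ({t} : Set G)) := by
    by_contra h
    push Not at h
    refine hnot ?_
    rw [IsPGroup.iff_card]
    refine ⟨_, Nat.eq_prime_pow_of_unique_prime_dvd Nat.card_pos.ne' fun {d} hd hdd => ?_⟩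
    by_contra hne
    exact h d hd hne hdd
  haveI := Fact.mk hr₀
  obtain ⟨x₀, hx₀⟩ := exists_prime_orderOf_dvd_card' r₀ hr₀d
  rw [← Subgroup.orderOf_coe] at hx₀
  have htx : Commute t (x₀ : G) := (Subgroup.mem_centralizer_singleton_iff.mp x₀.2).symm
  obtain ⟨k, hk2, hkG, hkS, hout⟩ := exists_count h₁ h₂ h₃ a₁₂ a₁₃ a₂₃ e₁ e₂ e₃ hn₁ hn₂ hn₃ hord
  have o₁ := odd_card h₁ (by rw [e₁])
  have o₂ := odd_card h₂ (by rw [e₂]; norm_num)
  have o₃ := odd_card h₃ (by rw [e₃]; norm_num)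
  set n₁ := Nat.card A₁ with hn₁d
  set n₂ := Nat.card A₂ with hn₂d
  set n₃ := Nat.card A₃ with hn₃d
  set M := n₁ * n₂ * n₃ with hM
  have hco₁₂ := coprime_of_apart h₁ h₂ a₁₂
  have hco₁₃ := coprime_of_apart h₁ h₃ a₁₃
  have hco₂₃ := coprime_of_apart h₂ h₃ a₂₃
  have oM : Odd M := (o₁.mul o₂).mul o₃
  have hMG : M ∣ Nat.card G := Nat.Coprime.mul_dvd_of_dvd_of_dvd (Nat.Coprime.mul_left hco₁₃ hco₂₃)
    (Nat.Coprime.mul_dvd_of_dvd_of_dvd hco₁₂ A₁.card_subgroup_dvd_card A₂.card_subgroup_dvd_card)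
    A₃.card_subgroup_dvd_card
  obtain ⟨g, hg⟩ := hMG
  have hgG : Nat.card G = g * M := by rw [hg, mul_comm]
  have hgM : Nat.Coprime g M := by
    have key : ∀ {A : Subgroup G} (hA : SelfCent A) {m : ℕ}, M = Nat.card A * m → Nat.Coprime g (Nat.card A) := by
      intro A hA m hm
      have h := coprime_index hA
      have hi : A.index = g * m := Nat.eq_of_mul_eq_mul_left (Nat.card_pos (α := A))
        (by rw [Subgroup.card_mul_index, hgG, hm]; ring)
      rw [hi] at h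
      exact (Nat.Coprime.coprime_dvd_right (dvd_mul_right g m) h).symm
    refine Nat.Coprime.mul_right (Nat.Coprime.mul_right ?_ ?_) ?_
    · exact key h₁ (m := n₂ * n₃) (by rw [hM]; ring)
    · exact key h₂ (m := n₁ * n₃) (by rw [hM]; ring)
    · exact key h₃ (m := n₁ * n₂) (by rw [hM]; ring)
  have hcover : ∀ w : G, orderOf w ∣ n₁ ∨ orderOf w ∣ n₂ ∨ orderOf w ∣ n₃ ∨ orderOf w ∣ g := by
    intro w
    by_cases hq : ∃ q : ℕ, q.Prime ∧ q ∣ orderOf w ∧ q ∣ M
    · obtain ⟨q, hq, hqw, hqM⟩ := hq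
      rcases (Nat.Prime.dvd_mul hq).1 hqM with h | h
      · rcases (Nat.Prime.dvd_mul hq).1 h with h | h
        · exact Or.inl (orderOf_dvd_of_prime_dvd h₁ hq h hqw)
        · exact Or.inr (Or.inl (orderOf_dvd_of_prime_dvd h₂ hq h hqw))
      · exact Or.inr (Or.inr (Or.inl (orderOf_dvd_of_prime_dvd h₃ hq h hqw)))
    · push Not at hq
      refine Or.inr (Or.inr (Or.inr ?_))
      exact (Nat.Coprime.dvd_mul_right (Nat.coprime_of_dvd fun q hq1 hqw hqM => hq q hq1 hqw hqM)).1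
        (hgG ▸ orderOf_dvd_natCard w)
  have hprimeg : ∀ {r : ℕ}, r.Prime → r ∣ g → ¬ r ∣ M := fun {r} hr h1 h2 =>
    Nat.not_coprime_of_dvd_of_dvd hr.one_lt h1 h2 hgM
  have houter : ∀ x : G, x = 1 ∨ (¬ orderOf x ∣ n₁ ∧ ¬ orderOf x ∣ n₂ ∧ ¬ orderOf x ∣ n₃) →
      ConjClasses.mk x ∉ torusClasses A₁ ∪ torusClasses A₂ ∪ torusClasses A₃ := by
    intro x hx
    simp only [Finset.mem_union, not_or]
    rcases hx with rfl | ⟨u₁, u₂, u₃⟩
    · exact ⟨⟨not_mem_torusClasses (Or.inl rfl), not_mem_torusClasses (Or.inl rfl)⟩, not_mem_torusClasses (Or.inl rfl)⟩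
    · exact ⟨⟨not_mem_torusClasses (Or.inr u₁), not_mem_torusClasses (Or.inr u₂)⟩, not_mem_torusClasses (Or.inr u₃)⟩
  have hprimeout : ∀ {x : G} {r : ℕ}, r.Prime → ¬ r ∣ M → r ∣ orderOf x →
      ¬ orderOf x ∣ n₁ ∧ ¬ orderOf x ∣ n₂ ∧ ¬ orderOf x ∣ n₃ := fun {x r} hr hrM hrx =>
    ⟨fun h => hrM (((hrx.trans h).mul_right n₂).mul_right n₃), fun h => hrM (((hrx.trans h).mul_left n₁).mul_right n₃),
      fun h => hrM ((hrx.trans h).mul_left (n₁ * n₂))⟩
  have h2M : ¬ 2 ∣ M := fun h => (Nat.not_even_iff_odd.2 oM) (even_iff_two_dvd.2 h)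
  have hr₀M : ¬ r₀ ∣ M := by
    intro h
    rcases (Nat.Prime.dvd_mul hr₀).1 h with h | h
    · rcases (Nat.Prime.dvd_mul hr₀).1 h with h | h
      exacts [coprime_of_commute h₁ o₁ ht htx hr₀ hx₀ h, coprime_of_commute h₂ o₂ ht htx hr₀ hx₀ h]
    · exact coprime_of_commute h₃ o₃ ht htx hr₀ hx₀ h
  have hr₀g : r₀ ∣ g := ((Nat.Prime.dvd_mul hr₀).1 (hgG ▸ hx₀ ▸ orderOf_dvd_natCard (x₀ : G))).resolve_right hr₀M
  have hr₀odd : Odd r₀ := hr₀.odd_of_ne_two hr₀2
  have hw : orderOf (t * (x₀ : G)) = 2 * r₀ := by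
    rw [htx.orderOf_mul_eq_mul_orderOf_of_coprime, ht, hx₀]
    rw [ht, hx₀]
    exact (Nat.coprime_primes Nat.prime_two hr₀).2 hr₀2.symm
  obtain ⟨y, -, hy⟩ := exists_order_four h₂ e₂ (by omega)
  set base : Finset (ConjClasses G) :=
    {ConjClasses.mk 1, ConjClasses.mk t, ConjClasses.mk y, ConjClasses.mk (t * (x₀ : G))} with hbase
  have hr₀3 : 3 ≤ r₀ := by have := hr₀.two_le; omega
  have hbcard : base.card = 4 := by
    have hne : ∀ {a b : G}, orderOf a ≠ orderOf b → ConjClasses.mk a ≠ ConjClasses.mk b :=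
      fun h e => h (orderOf_eq_of_mk_eq e)
    rw [hbase, Finset.card_insert_of_notMem, Finset.card_insert_of_notMem, Finset.card_pair]
    · exact hne (by rw [hy, hw]; obtain ⟨i, hi⟩ := hr₀odd; omega)
    · simp only [Finset.mem_insert, Finset.mem_singleton, not_or]
      exact ⟨hne (by rw [ht, hy]; norm_num), hne (by rw [ht, hw]; omega)⟩
    · simp only [Finset.mem_insert, Finset.mem_singleton, not_or]
      exact ⟨hne (by rw [orderOf_one, ht]; norm_num), hne (by rw [orderOf_one, hy]; norm_num),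
        hne (by rw [orderOf_one, hw]; omega)⟩
  have hbase_out : ∀ c ∈ base, c ∉ torusClasses A₁ ∪ torusClasses A₂ ∪ torusClasses A₃ := by
    intro c hc
    simp only [hbase, Finset.mem_insert, Finset.mem_singleton] at hc
    rcases hc with rfl | rfl | rfl | rfl
    · exact houter _ (Or.inl rfl)
    · exact houter _ (Or.inr (hprimeout Nat.prime_two h2M (by rw [ht])))
    · exact houter _ (Or.inr (hprimeout Nat.prime_two h2M (by rw [hy]; norm_num)))
    · exact houter _ (Or.inr (hprimeout Nat.prime_two h2M (by rw [hw]; exact dvd_mul_right _ _)))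
  have hbase_ord : ∀ {r : ℕ}, r.Prime → Odd r → ∀ {b : G}, orderOf b = r → ConjClasses.mk b ∉ base := by
    intro r hr hrodd b hb hmem
    simp only [hbase, Finset.mem_insert, Finset.mem_singleton] at hmem
    obtain ⟨i, hi⟩ := hrodd
    rcases hmem with h | h | h | h <;> have h' := orderOf_eq_of_mk_eq h
    · rw [hb, orderOf_one] at h'; exact hr.ne_one h'
    · rw [hb, ht] at h'; omega
    · rw [hb, hy] at h'; omega
    · rw [hb, hw] at h'; omega
  have hclasses : ∀ C : Finset (ConjClasses G),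
      (∀ c ∈ C, ∃ (b : G) (r : ℕ), r.Prime ∧ Odd r ∧ r ∣ g ∧ orderOf b = r ∧ ConjClasses.mk b = c) → C.card ≤ k := by
    intro C hC
    have hdis : Disjoint base C := Finset.disjoint_right.2 fun c hc => by
      obtain ⟨b, r, hr, hro, -, hb, rfl⟩ := hC c hc
      exact hbase_ord hr hro hb
    have h := hout (base ∪ C) fun c hc => by
      rcases Finset.mem_union.1 hc with h | h
      · exact hbase_out c h
      · obtain ⟨b, r, hr, -, hrg, hb, rfl⟩ := hC c h
        exact houter _ (Or.inr (hprimeout hr (hprimeg hr hrg) (by rw [hb])))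
    rw [Finset.card_union_of_disjoint hdis, hbcard] at h
    omega
  have hk0 : k ≠ 0 := by
    have := hclasses {ConjClasses.mk (x₀ : G)} (by
      simp only [Finset.mem_singleton, forall_eq]
      exact ⟨_, r₀, hr₀, hr₀odd, hr₀g, hx₀, rfl⟩)
    simp at this
    omega
  obtain ⟨hS20, hS11⟩ := hkS hk0
  obtain ⟨F₂⟩ := exists_fam h₂ (by omega)
  obtain ⟨F₃⟩ := exists_fam h₃ (by omega)
  have c₂ := F₂.card_eq
  have c₃ := F₃.card_eq
  rw [e₂, ← hn₂d] at c₂
  rw [e₃, ← hn₃d] at c₃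
  have hhi : g ≤ 3 * M := Nat.le_of_mul_le_mul_right
    (by rw [← hgG, mul_assoc, ← sq]; exact hord) (by positivity : 0 < M)
  have hlo : k * M < g := Nat.lt_of_mul_lt_mul_right (a := M) (by rw [← hgG, mul_assoc, ← sq]; exact hkG)
  have h4g : g % 4 = 0 := by
    have h : 4 ∣ g * M := by
      rw [← hgG]
      exact dvd_trans ⟨Nat.card A₂, by rw [← card_normalizer A₂, e₂, mul_comm]⟩
        (Subgroup.card_subgroup_dvd_card (Subgroup.normalizer (A₂ : Set G)))
    exact Nat.mod_eq_zero_of_dvd ((Nat.Coprime.dvd_mul_right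
      (show Nat.Coprime (2 ^ 2) M from oM.coprime_two_left.pow_left 2)).1 h)
  have r₁ : g * n₂ * n₃ % n₁ = 2 := by
    rw [mul_assoc]; exact residue h₁ e₁ dvd_rfl (by omega) (by norm_num) (by rw [hgG, hM, hn₁d]; ring)
  have r₂ : g * n₁ * n₃ % n₂ = 4 := by
    rw [mul_assoc]; exact residue h₂ e₂ (by norm_num) (by omega) dvd_rfl (by rw [hgG, hM, hn₂d]; ring)
  have r₃ : g * n₁ * n₂ % n₃ = 4 := by
    rw [mul_assoc]; exact residue h₃ e₃ (by norm_num) (by omega) dvd_rfl (by rw [hgG, hM, hn₃d]; ring)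
  have hpair : ∀ r s : ℕ, r.Prime → s.Prime → r ≠ s → Odd r → Odd s → r ∣ g → s ∣ g → k = 2 := by
    intro r s hr hs hne hro hso hrg hsg
    haveI := Fact.mk hr
    haveI := Fact.mk hs
    obtain ⟨a, ha⟩ := exists_prime_orderOf_dvd_card' (G := G) r (hgG ▸ hrg.mul_right M)
    obtain ⟨b, hb⟩ := exists_prime_orderOf_dvd_card' (G := G) s (hgG ▸ hsg.mul_right M)
    have := hclasses {ConjClasses.mk a, ConjClasses.mk b} (by
      simp only [Finset.mem_insert, Finset.mem_singleton, forall_eq_or_imp, forall_eq]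
      exact ⟨⟨a, r, hr, hro, hrg, ha, rfl⟩, ⟨b, s, hs, hso, hsg, hb, rfl⟩⟩)
    rw [Finset.card_pair (fun e => hne (by rw [← ha, ← hb]; exact orderOf_eq_of_mk_eq e))] at this
    omega
  have hprime : ∀ r : ℕ, r.Prime → Odd r → r ∣ g →
      ∃ d, d ∣ r - 1 ∧ r - 1 ≤ k * d ∧ (d ∣ g ∨ d ∣ n₁ ∨ d ∣ n₂ ∨ d ∣ n₃) := by
    intro r hr hro hrg
    haveI := Fact.mk hr
    obtain ⟨a, ha⟩ := exists_prime_orderOf_dvd_card' (G := G) r (hgG ▸ hrg.mul_right M)
    obtain ⟨d, C, hd, ⟨w, hdw⟩, hC, hCb⟩ := exists_automizer hr ha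
    refine ⟨d, hd, hC.trans (Nat.mul_le_mul_right _ (hclasses C fun c hc => ?_)), ?_⟩
    · obtain ⟨b, hb, hbc⟩ := hCb c hc
      exact ⟨b, r, hr, hro, hrg, hb, hbc⟩
    · rcases hcover w with h | h | h | h
      exacts [Or.inr (Or.inl (hdw.trans h)), Or.inr (Or.inr (Or.inl (hdw.trans h))),
        Or.inr (Or.inr (Or.inr (hdw.trans h))), Or.inl (hdw.trans h)]
  have hne : n₂ ≠ n₃ := fun e => by
    have h : n₂ = 1 := by
      have := hco₂₃
      rw [← hn₂d, ← hn₃d, ← e, Nat.coprime_self] at this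
      exact this
    omega
  have m₁ : n₁ % 2 = 1 := Nat.odd_iff.1 o₁
  rcases Nat.lt_or_gt_of_ne hne with hlt | hlt
  · exact Sieve.sieve (k := k) hlt m₁ (by omega) (by omega) hn₁ (by omega) hco₁₂ hco₁₃ hco₂₃
      (nine_dvd h₂ e₂) (nine_dvd h₃ e₃) hS20 (by omega) hS11 hlo hhi h4g hgM r₁ r₂ r₃ hpair hprime
  · exact Sieve.sieve (n₁ := n₁) (n₂ := n₃) (n₃ := n₂) (k := k) (g := g) hlt m₁ (by omega) (by omega) hn₁ (by omega)
      hco₁₃ hco₁₂ hco₂₃.symm (nine_dvd h₃ e₃) (nine_dvd h₂ e₂) (by omega) (by omega)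
      (fun e => by have := hS11 e; omega) (by rwa [mul_right_comm n₁]) (by rwa [mul_right_comm n₁]) h4g
      (by rwa [mul_right_comm n₁]) (by rwa [mul_right_comm g]) r₃ r₂ hpair
      (fun r hr hro hrg => by obtain ⟨d, u1, u2, u3⟩ := hprime r hr hro hrg; exact ⟨d, u1, u2, u3.imp id (Or.imp id Or.symm)⟩)

end CfsgLib.SuzukiThreeCC
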