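import Mathlib.Algebra.BigOperators.Group.Finset.Basic
import Mathlib.Algebra.BigOperators.Ring.Finset
import Mathlib.Algebra.Order.BigOperators.Group.Finset
import Mathlib.Data.Fintype.Basic
import Mathlib.Tactic.Abel
import Mathlib.Tactic.Linarith
import Mathlib.Tactic.Ring

/-!
# Three orthogonal generalized characters

Integer vectors `g₁, g₂, g₃` of norms `3, 5, 5`, pairwise orthogonal, with the shape of the three
exceptional families: at most three further positions lie in their supports.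
-/

set_option autoImplicit false

namespace CfsgLib.SuzukiThreeCC

open Finset

/-- The quadratic form used for the count. -/
def form (a b c : ℤ) : ℤ := (2 * a + b + c) * (2 * a + b + c) + b * b + c * c

theorem form_nonneg (a b c : ℤ) : 0 ≤ form a b c := by
  unfold form
  nlinarith [mul_self_nonneg (2 * a + b + c), mul_self_nonneg b, mul_self_nonneg c]

theorem sq_abs_le (b : ℤ) : b ≤ b * b ∧ -b ≤ b * b := by
  constructor
  · rcases le_or_gt b 0 with h | h <;> nlinarith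
  · rcases le_or_gt 0 b with h | h <;> nlinarith

theorem form_ge_first (a b c : ℤ) :
    2 * (2 * a + b + c) ≤ form a b c ∧ -(2 * (2 * a + b + c)) ≤ form a b c := by
  unfold form
  have hb := sq_abs_le b
  have hc := sq_abs_le c
  rcases le_or_gt 2 (2 * a + b + c) with h | h
  · constructor <;> nlinarith [mul_self_nonneg b, mul_self_nonneg c]
  rcases le_or_gt (2 * a + b + c) (-2) with h' | h'
  · constructor <;> nlinarith [mul_self_nonneg b, mul_self_nonneg c]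
  rcases eq_or_ne (2 * a + b + c) 0 with e | e
  · rw [e]
    constructor <;> nlinarith [mul_self_nonneg b, mul_self_nonneg c]
  have h1 : (1 : ℤ) ≤ b * b + c * c := by
    rcases eq_or_ne b 0 with rfl | hb0
    · have : c ≠ 0 := by omega
      nlinarith [mul_self_pos.2 this]
    · nlinarith [mul_self_pos.2 hb0, mul_self_nonneg c]
  rcases (show 2 * a + b + c = -1 ∨ 2 * a + b + c = 1 by omega) with e | e <;>
    rw [e] <;> constructor <;> linarith

theorem form_ge_second (a b c : ℤ) :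
    (2 * a + b + c) + b ≤ form a b c ∧ -((2 * a + b + c) + b) ≤ form a b c := by
  unfold form
  have hv := sq_abs_le (2 * a + b + c)
  have hb := sq_abs_le b
  constructor <;> nlinarith [mul_self_nonneg c]

theorem form_ge_third (a b c : ℤ) :
    (2 * a + b + c) + c ≤ form a b c ∧ -((2 * a + b + c) + c) ≤ form a b c := by
  unfold form
  have hv := sq_abs_le (2 * a + b + c)
  have hc := sq_abs_le c
  constructor <;> nlinarith [mul_self_nonneg b]

theorem two_le_form {a b c : ℤ} (h : a ≠ 0 ∨ b ≠ 0 ∨ c ≠ 0) : 2 ≤ form a b c := by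
  unfold form
  rcases eq_or_ne b 0 with hb | hb
  · rcases eq_or_ne c 0 with hc | hc
    · subst hb hc
      have : a ≠ 0 := by simpa using h
      nlinarith [mul_self_pos.2 this]
    · subst hb
      rcases eq_or_ne (2 * a + 0 + c) 0 with hv | hv
      · rw [hv]
        have hc2 : c = -2 * a := by linarith
        have ha : a ≠ 0 := by intro e; subst e; omega
        subst hc2
        nlinarith [mul_self_pos.2 ha]
      · nlinarith [mul_self_pos.2 hv, mul_self_pos.2 hc]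
  · rcases eq_or_ne c 0 with hc | hc
    · subst hc
      rcases eq_or_ne (2 * a + b + 0) 0 with hv | hv
      · rw [hv]
        have hb2 : b = -2 * a := by linarith
        have ha : a ≠ 0 := by intro e; subst e; omega
        subst hb2
        nlinarith [mul_self_pos.2 ha]
      · nlinarith [mul_self_pos.2 hv, mul_self_pos.2 hb]
    · nlinarith [mul_self_nonneg (2 * a + b + c), mul_self_pos.2 hb, mul_self_pos.2 hc]

variable {X : Type*} [DecidableEq X]

/-- A function constant on a finset up to one position. -/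
theorem sum_const_except {M : Type*} [AddCommGroup M] (F : Finset X) {z : X} (hz : z ∈ F) (f : X → M) (p : M)
    (hp : ∀ x ∈ F, x ≠ z → f x = p) : ∑ x ∈ F, f x = F.card • p + (f z - p) := by
  rw [← Finset.add_sum_erase F f hz, Finset.sum_congr rfl fun x hx =>
    hp x (Finset.mem_of_mem_erase hx) (Finset.ne_of_mem_erase hx), Finset.sum_const,
    ← Finset.card_erase_add_one hz, succ_nsmul]
  abel

/-- The shape of the three vectors. -/
structure Shape [Fintype X] (g₁ g₂ g₃ : X → ℤ) (x₀ : X) (F₁ F₂ F₃ : Finset X) : Prop where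
  one₁ : g₁ x₀ = 1
  one₂ : g₂ x₀ = 1
  one₃ : g₃ x₀ = 1
  norm₁ : ∑ x, g₁ x * g₁ x = 3
  norm₂ : ∑ x, g₂ x * g₂ x = 5
  norm₃ : ∑ x, g₃ x * g₃ x = 5
  orth₁₂ : ∑ x, g₁ x * g₂ x = 0
  orth₁₃ : ∑ x, g₁ x * g₃ x = 0
  orth₂₃ : ∑ x, g₂ x * g₃ x = 0
  not_mem₁ : x₀ ∉ F₁
  not_mem₂ : x₀ ∉ F₂
  not_mem₃ : x₀ ∉ F₃
  disj₁₂ : Disjoint F₁ F₂
  disj₁₃ : Disjoint F₁ F₃
  disj₂₃ : Disjoint F₂ F₃
  two_le₁ : 2 ≤ F₁.card
  two_le₂ : 2 ≤ F₂.card
  two_le₃ : 2 ≤ F₃.card
  fam₁ : ∃ z ∈ F₁, ∃ a b c ε : ℤ, (ε = 1 ∨ ε = -1) ∧ (∀ x ∈ F₁, g₂ x = b ∧ g₃ x = c) ∧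
    (∀ x ∈ F₁, x ≠ z → g₁ x = a) ∧ g₁ z = a - ε
  fam₂ : ∃ z ∈ F₂, ∃ a b c ε : ℤ, (ε = 1 ∨ ε = -1) ∧ (∀ x ∈ F₂, g₁ x = a ∧ g₃ x = c) ∧
    (∀ x ∈ F₂, x ≠ z → g₂ x = b) ∧ g₂ z = b - ε
  fam₃ : ∃ z ∈ F₃, ∃ a b c ε : ℤ, (ε = 1 ∨ ε = -1) ∧ (∀ x ∈ F₃, g₁ x = a ∧ g₂ x = b) ∧
    (∀ x ∈ F₃, x ≠ z → g₃ x = c) ∧ g₃ z = c - ε

variable [Fintype X] {g₁ g₂ g₃ : X → ℤ} {x₀ : X} {F₁ F₂ F₃ : Finset X}

theorem Shape.card_others (h : Shape g₁ g₂ g₃ x₀ F₁ F₂ F₃) :
    (Finset.univ.filter fun x => x ∉ insert x₀ (F₁ ∪ F₂ ∪ F₃) ∧ (g₁ x ≠ 0 ∨ g₂ x ≠ 0 ∨ g₃ x ≠ 0)).card ≤ 3 := by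
  classical
  set T : X → ℤ := fun x => form (g₁ x) (g₂ x) (g₃ x) with hT
  have htot : ∑ x, T x = 32 := by
    have e : ∀ x, T x = 4 * (g₁ x * g₁ x) + 2 * (g₂ x * g₂ x) + 2 * (g₃ x * g₃ x) + 4 * (g₁ x * g₂ x) +
        4 * (g₁ x * g₃ x) + 2 * (g₂ x * g₃ x) := fun x => by simp only [hT, form]; ring
    simp only [e, Finset.sum_add_distrib, ← Finset.mul_sum, h.norm₁, h.norm₂, h.norm₃, h.orth₁₂, h.orth₁₃,
      h.orth₂₃]
    norm_num
  have h0 : T x₀ = 18 := by simp [hT, form, h.one₁, h.one₂, h.one₃]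
  have hF1 : 4 ≤ ∑ x ∈ F₁, T x := by
    obtain ⟨z, hz, a, b, c, ε, hε, hbc, ha, haz⟩ := h.fam₁
    rw [sum_const_except F₁ hz T (form a b c) (fun x hx hne => by
      simp only [hT]; rw [ha x hx hne, (hbc x hx).1, (hbc x hx).2]), nsmul_eq_mul]
    have hTz : T z = form (a - ε) b c := by simp only [hT]; rw [haz, (hbc z hz).1, (hbc z hz).2]
    rw [hTz]
    have hm : (2 : ℤ) ≤ F₁.card := by exact_mod_cast h.two_le₁
    have h1 := form_ge_first a b c
    have h2 := form_nonneg a b c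
    rcases hε with rfl | rfl <;> unfold form at * <;> nlinarith
  have hF2 : 2 ≤ ∑ x ∈ F₂, T x := by
    obtain ⟨z, hz, a, b, c, ε, hε, hac, hb, hbz⟩ := h.fam₂
    rw [sum_const_except F₂ hz T (form a b c) (fun x hx hne => by
      simp only [hT]; rw [hb x hx hne, (hac x hx).1, (hac x hx).2]), nsmul_eq_mul]
    have hTz : T z = form a (b - ε) c := by simp only [hT]; rw [hbz, (hac z hz).1, (hac z hz).2]
    rw [hTz]
    have hm : (2 : ℤ) ≤ F₂.card := by exact_mod_cast h.two_le₂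
    have h1 := form_ge_second a b c
    have h2 := form_nonneg a b c
    rcases hε with rfl | rfl <;> unfold form at * <;> nlinarith
  have hF3 : 2 ≤ ∑ x ∈ F₃, T x := by
    obtain ⟨z, hz, a, b, c, ε, hε, hab, hc, hcz⟩ := h.fam₃
    rw [sum_const_except F₃ hz T (form a b c) (fun x hx hne => by
      simp only [hT]; rw [hc x hx hne, (hab x hx).1, (hab x hx).2]), nsmul_eq_mul]
    have hTz : T z = form a b (c - ε) := by simp only [hT]; rw [hcz, (hab z hz).1, (hab z hz).2]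
    rw [hTz]
    have hm : (2 : ℤ) ≤ F₃.card := by exact_mod_cast h.two_le₃
    have h1 := form_ge_third a b c
    have h2 := form_nonneg a b c
    rcases hε with rfl | rfl <;> unfold form at * <;> nlinarith
  set O := Finset.univ.filter fun x => x ∉ insert x₀ (F₁ ∪ F₂ ∪ F₃) ∧ (g₁ x ≠ 0 ∨ g₂ x ≠ 0 ∨ g₃ x ≠ 0)
  have hO : 2 * (O.card : ℤ) ≤ ∑ x ∈ O, T x := by
    have := Finset.card_nsmul_le_sum O T 2 fun x hx => two_le_form (Finset.mem_filter.1 hx).2.2
    rw [nsmul_eq_mul] at this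
    linarith
  have hdis : Disjoint O (insert x₀ (F₁ ∪ F₂ ∪ F₃)) :=
    Finset.disjoint_left.2 fun x hx => (Finset.mem_filter.1 hx).2.1
  have hle : ∑ x ∈ O ∪ insert x₀ (F₁ ∪ F₂ ∪ F₃), T x ≤ ∑ x, T x :=
    Finset.sum_le_sum_of_subset_of_nonneg (Finset.subset_univ _) fun x _ _ => form_nonneg _ _ _
  rw [Finset.sum_union hdis, Finset.sum_insert (by simp [h.not_mem₁, h.not_mem₂, h.not_mem₃]),
    Finset.sum_union (Finset.disjoint_union_left.2 ⟨h.disj₁₃, h.disj₂₃⟩), Finset.sum_union h.disj₁₂] at hle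
  omega

end CfsgLib.SuzukiThreeCC
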