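import Cfsg.Agent.Lib.Recog.SuzukiThreeCC.Basic
import Cfsg.Agent.Lib.Char.Indicator
import Mathlib.Algebra.Order.Chebyshev

/-!
# The count: few characters vanish on all three subgroups, and few classes lie outside them

Every pair (element of a torus, inverting involution) is a pair of involutions, and by Frobenius-Schur the number of
involutions is at most the sum of the nontrivial degrees; with `|G| ≤ 3 M²`, `M = n₁ n₂ n₃`, this bounds `Σ mᵢ` as soon
as some character vanishes on all three subgroups.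
-/

set_option autoImplicit false
set_option linter.all false

namespace CfsgLib.SuzukiThreeCC

open CfsgLib.CA CfsgLib.Char
open scoped Classical

/-- The pure inequality. -/
theorem numeric_bound {G M S k I P : ℕ} (hM : 0 < M) (hk : k = 1 ∨ k = 2) (hG : G ≤ 3 * M ^ 2)
    (hI : G * S ≤ I * I) (hIP : I ≤ P + k * M) (hP : P * P + (S + 3) * (k * M ^ 2) ≤ (S + 3) * G) :
    S ≤ 20 ∧ (k = 2 → S ≤ 11) := by
  have hG' : (G : ℤ) ≤ 3 * (M : ℤ) ^ 2 := by exact_mod_cast hG
  have hI' : (G : ℤ) * S ≤ (I : ℤ) * I := by exact_mod_cast hI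
  have hIP' : (I : ℤ) ≤ P + k * M := by exact_mod_cast hIP
  have hP' : (P : ℤ) * P + (S + 3) * (k * (M : ℤ) ^ 2) ≤ (S + 3) * G := by exact_mod_cast hP
  have hM0 : (0 : ℤ) < M := by exact_mod_cast hM
  have hP0 : (0 : ℤ) ≤ P := Int.natCast_nonneg P
  have hI0 : (0 : ℤ) ≤ I := Int.natCast_nonneg I
  have h1 : (I : ℤ) * I ≤ (P + k * M) * (P + k * M) := mul_self_le_mul_self hI0 hIP'
  have hlow : (k : ℤ) * (M : ℤ) ^ 2 * (S + 3 - k) - 3 * G ≤ 2 * k * P * M := by nlinarith
  suffices h : ∀ c N : ℤ, 0 ≤ c → c * (M : ℤ) ^ 2 ≤ (k : ℤ) * (M : ℤ) ^ 2 * (S + 3 - k) - 3 * G →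
      (P : ℤ) * P ≤ N * (M : ℤ) ^ 2 → c ^ 2 ≤ 4 * (k : ℤ) ^ 2 * N by
    have hS3 : (0 : ℤ) ≤ (S : ℤ) + 3 := by positivity
    rcases hk with rfl | rfl
    · refine ⟨?_, fun h => absurd h (by norm_num)⟩
      by_contra hS
      have hS' : (21 : ℤ) ≤ S := by exact_mod_cast (show 21 ≤ S by omega)
      have := h ((S : ℤ) - 7) (2 * (S + 3)) (by linarith) (by push_cast; nlinarith) (by
        push_cast at hP'; nlinarith [mul_le_mul_of_nonneg_left hG' hS3])
      push_cast at this; nlinarith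
    · have hb : S ≤ 11 := by
        by_contra hS
        have hS' : (12 : ℤ) ≤ S := by exact_mod_cast (show 12 ≤ S by omega)
        have := h (2 * (S : ℤ) - 7) (S + 3) (by linarith) (by push_cast; nlinarith) (by
          push_cast at hP'; nlinarith [mul_le_mul_of_nonneg_left hG' hS3])
        push_cast at this; nlinarith
      exact ⟨by omega, fun _ => hb⟩
  intro c N hc hcL hPN
  have h2 : c * (M : ℤ) ^ 2 ≤ 2 * k * P * M := hcL.trans hlow
  have h3 : (c * (M : ℤ) ^ 2) ^ 2 ≤ (2 * k * P * M) ^ 2 := pow_le_pow_left₀ (by positivity) h2 2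
  have h4 : (2 * (k : ℤ) * P * M) ^ 2 ≤ 4 * (k : ℤ) ^ 2 * N * ((M : ℤ) ^ 2) ^ 2 := by
    have := mul_le_mul_of_nonneg_left hPN (show (0 : ℤ) ≤ 4 * (k : ℤ) ^ 2 * (M : ℤ) ^ 2 by positivity)
    nlinarith
  exact le_of_mul_le_mul_right (by nlinarith) (show (0 : ℤ) < ((M : ℤ) ^ 2) ^ 2 by positivity)

variable {G : Type*} [Group G] [Fintype G]

/-- The nontrivial elements conjugate into `A`. -/
noncomputable def torus (A : Subgroup G) : Finset G :=
  Finset.univ.filter fun x => x ≠ 1 ∧ ∃ g : G, g * x * g⁻¹ ∈ A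

theorem mem_torus {A : Subgroup G} {x : G} : x ∈ torus A ↔ x ≠ 1 ∧ ∃ g : G, g * x * g⁻¹ ∈ A := by
  simp [torus]

theorem orderOf_dvd_of_mem_torus {A : Subgroup G} {x : G} (hx : x ∈ torus A) : orderOf x ∣ Nat.card A := by
  obtain ⟨-, g, hg⟩ := mem_torus.1 hx
  have := orderOf_dvd_natCard (⟨_, hg⟩ : A)
  rw [Subgroup.orderOf_mk] at this
  rwa [← MulAut.conj_apply, show (MulAut.conj g) x = (MulAut.conj g).toMonoidHom x from rfl,
    orderOf_injective _ (MulAut.conj g).injective] at this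

theorem disjoint_torus {A B : Subgroup G} (h : Apart A B) : Disjoint (torus A) (torus B) := by
  rw [Finset.disjoint_left]
  intro x hxA hxB
  obtain ⟨hx, g, hg⟩ := mem_torus.1 hxA
  obtain ⟨-, g', hg'⟩ := mem_torus.1 hxB
  refine h (g' * g⁻¹) _ hg (fun e => hx (conj_eq_one_iff.mp e)) ?_
  simpa [mul_assoc] using hg'

theorem card_torus {A : Subgroup G} (hA : SelfCent A) :
    (Subgroup.normalizer (A : Set G)).index * (Nat.card A - 1) ≤ (torus A).card := by
  set N := Subgroup.normalizer (A : Set G)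
  let f : (G ⧸ N) × {a : A // a ≠ 1} → G := fun p => p.1.out * (p.2.1 : G) * p.1.out⁻¹
  have hf : Function.Injective f := by
    rintro ⟨q, a, ha⟩ ⟨q', b, hb⟩ h
    have h' : q.out * (a : G) * q.out⁻¹ = q'.out * (b : G) * q'.out⁻¹ := h
    have hx : (q'.out⁻¹ * q.out) * (a : G) * (q'.out⁻¹ * q.out)⁻¹ = b := by
      calc _ = q'.out⁻¹ * (q.out * (a : G) * q.out⁻¹) * q'.out := by group
        _ = _ := by rw [h']; group
    have hq : q = q' := by
      rw [← q.out_eq', ← q'.out_eq', eq_comm, QuotientGroup.eq]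
      exact mem_normalizer_of_conj_mem hA a.2 (fun e => ha (Subtype.ext e)) (hx ▸ b.2)
    subst hq
    rw [inv_mul_cancel, one_mul, inv_one, mul_one] at hx
    exact congrArg (Prod.mk q) (Subtype.ext (Subtype.ext hx))
  have h1 := Finset.card_le_card_of_injOn (s := (Finset.univ : Finset ((G ⧸ N) × {a : A // a ≠ 1}))) f
    (t := torus A) (fun p _ => mem_torus.2 ⟨fun e => p.2.2 (Subtype.ext (conj_eq_one_iff.mp e)), p.1.out⁻¹, by
      simp [f, mul_assoc]⟩) hf.injOn
  rw [Finset.card_univ, ← Nat.card_eq_fintype_card, Nat.card_prod, ← Subgroup.index_eq_card] at h1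
  refine le_trans (le_of_eq ?_) h1
  congr 1
  rw [Nat.card_eq_fintype_card, Nat.card_eq_fintype_card, Fintype.card_subtype_compl,
    Fintype.card_subtype_eq]

/-- The involutions. -/
noncomputable def invols (G : Type*) [Group G] [Fintype G] : Finset G :=
  Finset.univ.filter fun v => v ≠ 1 ∧ v * v = 1

/-- The involutions inverting `x`. -/
noncomputable def inverters (x : G) : Finset G :=
  (invols G).filter fun v => v * x * v⁻¹ = x⁻¹

theorem card_inverters {A : Subgroup G} (hA : SelfCent A)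
    (he : 2 ∣ A.relIndex (Subgroup.normalizer (A : Set G))) {x : G} (hx : x ∈ torus A) :
    Nat.card A ≤ (inverters x).card := by
  obtain ⟨u, hu, huA, hu2⟩ := exists_inverting hA he
  obtain ⟨-, g, hg⟩ := mem_torus.1 hx
  rw [Nat.card_eq_fintype_card, ← Finset.card_univ]
  refine Finset.card_le_card_of_injOn (fun b : A => g⁻¹ * (u * b) * g) (fun b _ => ?_) ?_
  · obtain ⟨hN, hout, hsq⟩ := coset_involution hA hu huA hu2 b.2
    have hinv := inverts hA hN hout hsq hg
    simp only [Finset.mem_coe, inverters, invols, Finset.mem_filter, Finset.mem_univ, true_and]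
    refine ⟨⟨fun e => hout ?_, ?_⟩, ?_⟩
    · have : u * (b : G) = 1 := by
        calc u * (b : G) = g * (g⁻¹ * (u * b) * g) * g⁻¹ := by group
          _ = 1 := by rw [e]; group
      rw [this]; exact A.one_mem
    · calc g⁻¹ * (u * b) * g * (g⁻¹ * (u * b) * g) = g⁻¹ * (u * b * (u * b)) * g := by group
        _ = 1 := by rw [hsq]; group
    · calc g⁻¹ * (u * b) * g * x * (g⁻¹ * (u * b) * g)⁻¹
          = g⁻¹ * (u * b * (g * x * g⁻¹) * (u * b)⁻¹) * g := by group
        _ = x⁻¹ := by rw [hinv]; group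
  · intro b _ c _ h
    exact Subtype.ext (by simpa using h)

/-- Pairs of involutions with product in the tori. -/
theorem sum_le_card_invols_sq {A₁ A₂ A₃ : Subgroup G} (h₁ : SelfCent A₁) (h₂ : SelfCent A₂) (h₃ : SelfCent A₃)
    (a₁₂ : Apart A₁ A₂) (a₁₃ : Apart A₁ A₃) (a₂₃ : Apart A₂ A₃)
    (e₁ : 2 ∣ A₁.relIndex (Subgroup.normalizer (A₁ : Set G))) (e₂ : 2 ∣ A₂.relIndex (Subgroup.normalizer (A₂ : Set G)))
    (e₃ : 2 ∣ A₃.relIndex (Subgroup.normalizer (A₃ : Set G))) :
    (torus A₁).card * Nat.card A₁ + (torus A₂).card * Nat.card A₂ + (torus A₃).card * Nat.card A₃ ≤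
      (invols G).card * (invols G).card := by
  set T := torus A₁ ∪ torus A₂ ∪ torus A₃ with hT
  have hodd : ∀ x ∈ T, x * x ≠ 1 := by
    intro x hx hxx
    have h2 : orderOf x ∣ 2 := orderOf_dvd_of_pow_eq_one (by rw [sq]; exact hxx)
    simp only [hT, Finset.mem_union] at hx
    have key : ∀ {A : Subgroup G}, SelfCent A → 2 ∣ A.relIndex (Subgroup.normalizer (A : Set G)) →
        x ∈ torus A → False := fun {A} hA he hm => (mem_torus.1 hm).1 (orderOf_eq_one_iff.1
      (Nat.eq_one_of_dvd_coprimes (odd_card hA he).coprime_two_right (orderOf_dvd_of_mem_torus hm) h2))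
    rcases hx with (hx | hx) | hx
    exacts [key h₁ e₁ hx, key h₂ e₂ hx, key h₃ e₃ hx]
  have hinj : (T.sigma fun x => inverters x).card ≤ ((invols G) ×ˢ (invols G)).card := by
    refine Finset.card_le_card_of_injOn (fun p => (p.2, p.2 * p.1)) (fun p hp => ?_) ?_
    · simp only [Finset.mem_coe, Finset.mem_sigma, inverters, Finset.mem_filter] at hp
      obtain ⟨hxT, hv, hinv⟩ := hp
      have hv' := hv
      simp only [invols, Finset.mem_filter, Finset.mem_univ, true_and] at hv'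
      have hvinv : p.2⁻¹ = p.2 := inv_eq_of_mul_eq_one_right hv'.2
      simp only [Finset.mem_coe, Finset.mem_product, hv, true_and, invols, Finset.mem_filter, Finset.mem_univ]
      refine ⟨hv', fun e => hodd _ hxT ?_, ?_⟩
      · have hx : p.1 = p.2 := by rw [← hvinv]; exact eq_inv_of_mul_eq_one_right e
        rw [hx]; exact hv'.2
      · rw [hvinv] at hinv
        rw [← mul_assoc, hinv, inv_mul_cancel]
    · rintro ⟨x, v⟩ - ⟨y, w⟩ - h
      simp only [Prod.mk.injEq] at h
      obtain ⟨rfl, h⟩ := h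
      simp only [mul_right_inj] at h
      subst h; rfl
  rw [Finset.card_sigma, Finset.card_product] at hinj
  refine le_trans ?_ hinj
  rw [hT, Finset.sum_union (Finset.disjoint_union_left.2 ⟨disjoint_torus a₁₃, disjoint_torus a₂₃⟩),
    Finset.sum_union (disjoint_torus a₁₂)]
  refine add_le_add (add_le_add ?_ ?_) ?_
  · exact (Finset.card_nsmul_le_sum _ _ _ fun x hx => card_inverters h₁ e₁ hx)
  · exact (Finset.card_nsmul_le_sum _ _ _ fun x hx => card_inverters h₂ e₂ hx)
  · exact (Finset.card_nsmul_le_sum _ _ _ fun x hx => card_inverters h₃ e₃ hx)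

/-- The degree. -/
noncomputable def deg (χ : Cfsg.IrrCharacter G) : ℕ := (IsIrr.exists_degree χ.2).choose

theorem deg_spec (χ : Cfsg.IrrCharacter G) : 0 < deg χ ∧ (χ : G → ℂ) 1 = deg χ :=
  (IsIrr.exists_degree χ.2).choose_spec

theorem sum_deg_sq [Fintype (Cfsg.IrrCharacter G)] :
    ∑ χ : Cfsg.IrrCharacter G, deg χ * deg χ = Nat.card G := by
  have h := sum_sq_degree (G := G)
  simp only [(deg_spec _).2, sq] at h
  exact_mod_cast h

theorem deg_triv : deg (trivChar G) = 1 := by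
  have := (deg_spec (trivChar G)).2
  rw [trivChar_apply] at this
  exact_mod_cast this.symm

theorem card_dvd_deg {A : Subgroup G} (χ : Cfsg.IrrCharacter G) (h : ∀ a : A, a ≠ 1 → (χ : G → ℂ) a = 0) :
    Nat.card A ∣ deg χ := by
  obtain ⟨k, hk⟩ := IsChar.classInner_eq_natCast (IsChar.restrict A (IsIrr.isCharacter χ.2))
    (isCharacter_one (G := A))
  rw [Cfsg.classInner, Finset.sum_eq_single (1 : A) (fun a _ ha => by rw [h a ha, zero_mul])
    (fun hh => absurd (Finset.mem_univ _) hh)] at hk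
  rw [Subgroup.coe_one, (deg_spec χ).2, map_one, mul_one,
    inv_mul_eq_iff_eq_mul₀ (Nat.cast_ne_zero.mpr Nat.card_pos.ne')] at hk
  exact ⟨k, by exact_mod_cast hk⟩

/-- Frobenius-Schur: the involutions are at most the sum of the nontrivial degrees. -/
theorem card_invols_le [Fintype (Cfsg.IrrCharacter G)] :
    (invols G).card + 1 ≤ ∑ χ : Cfsg.IrrCharacter G, deg χ := by
  have h := congrArg Complex.re (card_sqrt_eq_sum (1 : G))
  simp only [Complex.natCast_re, Complex.re_sum, (deg_spec _).2] at h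
  have hle : (Nat.card {s : G // s * s = 1} : ℝ) ≤ ((∑ χ : Cfsg.IrrCharacter G, deg χ : ℕ) : ℝ) := by
    rw [h, Nat.cast_sum]
    refine Finset.sum_le_sum fun χ _ => ?_
    obtain ⟨n, ρ, hρ, hχ⟩ := χ.2
    rcases (fsInd_trichotomy ρ).1 with e | e | e <;> rw [← hχ, e] <;> simp
  have hcard : Nat.card {s : G // s * s = 1} = (invols G).card + 1 := by
    rw [Nat.card_eq_fintype_card, Fintype.card_subtype,
      ← Finset.card_insert_of_notMem (show (1 : G) ∉ invols G by simp [invols])]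
    congr 1
    ext s
    simp only [invols, Finset.mem_filter, Finset.mem_univ, true_and, Finset.mem_insert]
    exact ⟨fun h => (em (s = 1)).imp id fun h1 => ⟨h1, h⟩,
      fun h => h.elim (fun e => by rw [e, one_mul]) fun e => e.2⟩
  rw [hcard] at hle
  exact_mod_cast hle

/-- The classes meeting `A` nontrivially. -/
noncomputable def torusClasses (A : Subgroup G) : Finset (ConjClasses G) :=
  (torus A).image ConjClasses.mk

theorem le_card_torusClasses {A : Subgroup G} (hA : SelfCent A) :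
    Nat.card A - 1 ≤ A.relIndex (Subgroup.normalizer (A : Set G)) * (torusClasses A).card := by
  set N := Subgroup.normalizer (A : Set G)
  set U := (Finset.univ : Finset A).erase 1
  have hU : U.card = Nat.card A - 1 := by
    rw [Finset.card_erase_of_mem (Finset.mem_univ _), Finset.card_univ, Nat.card_eq_fintype_card]
  rw [← hU]
  refine Finset.card_le_mul_card_image_of_maps_to (f := fun a : A => ConjClasses.mk (a : G)) (fun a ha => ?_) _
    fun C _ => ?_
  · exact Finset.mem_image.2 ⟨a, mem_torus.2 ⟨fun e => Finset.ne_of_mem_erase ha (Subtype.ext e), 1,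
      by simpa using a.2⟩, rfl⟩
  · rcases (U.filter fun a : A => ConjClasses.mk (a : G) = C).eq_empty_or_nonempty with h | ⟨a, ha⟩
    · rw [h]; simp
    rw [Finset.mem_filter] at ha
    have ha1 : (a : G) ≠ 1 := fun e => Finset.ne_of_mem_erase ha.1 (Subtype.ext e)
    rw [Subgroup.relIndex, Subgroup.index_eq_card, Nat.card_eq_fintype_card, ← Finset.card_univ]
    refine le_trans (Finset.card_le_card (t := Finset.univ.image fun q : N ⧸ A.subgroupOf N => cj A q.out a)
      fun b hb => ?_) Finset.card_image_le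
    rw [Finset.mem_filter] at hb
    obtain ⟨c, hc⟩ := isConj_iff.mp (ConjClasses.mk_eq_mk_iff_isConj.mp (ha.2.trans hb.2.symm))
    have hcN : c ∈ N := mem_normalizer_of_conj_mem hA a.2 ha1 (hc ▸ b.2)
    set q : N ⧸ A.subgroupOf N := QuotientGroup.mk (⟨c, hcN⟩ : N)
    have hq : (q.out)⁻¹ * (⟨c, hcN⟩ : N) ∈ A.subgroupOf N := by
      rw [← QuotientGroup.eq]; exact q.out_eq'
    rw [Subgroup.mem_subgroupOf] at hq
    refine Finset.mem_image.2 ⟨q, Finset.mem_univ _, Subtype.ext ?_⟩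
    rw [coe_cj, ← hc]
    have hcomm := (commute_of_mem hA hq a.2).eq
    calc (q.out : G) * a * (q.out : G)⁻¹
        = q.out * ((((q.out⁻¹ * ⟨c, hcN⟩ : N)) : G) * a * (((q.out⁻¹ * ⟨c, hcN⟩ : N)) : G)⁻¹) *
            (q.out : G)⁻¹ := by rw [hcomm, mul_inv_cancel_right]
      _ = c * a * c⁻¹ := by simp only [Subgroup.coe_mul, Subgroup.coe_inv]; group

/-- **The count.** -/
theorem exists_count {A₁ A₂ A₃ : Subgroup G} (h₁ : SelfCent A₁) (h₂ : SelfCent A₂) (h₃ : SelfCent A₃)
    (a₁₂ : Apart A₁ A₂) (a₁₃ : Apart A₁ A₃) (a₂₃ : Apart A₂ A₃)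
    (e₁ : A₁.relIndex (Subgroup.normalizer (A₁ : Set G)) = 2)
    (e₂ : A₂.relIndex (Subgroup.normalizer (A₂ : Set G)) = 4)
    (e₃ : A₃.relIndex (Subgroup.normalizer (A₃ : Set G)) = 4)
    (hn₁ : 5 ≤ Nat.card A₁) (hn₂ : 5 < Nat.card A₂) (hn₃ : 5 < Nat.card A₃)
    (hord : Nat.card G ≤ 3 * (Nat.card A₁ * Nat.card A₂ * Nat.card A₃) ^ 2) :
    ∃ k, k ≤ 2 ∧ k * (Nat.card A₁ * Nat.card A₂ * Nat.card A₃) ^ 2 < Nat.card G ∧
      (k ≠ 0 → (Nat.card A₁ - 1) / 2 + (Nat.card A₂ - 1) / 4 + (Nat.card A₃ - 1) / 4 ≤ 20 ∧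
        (k = 2 → (Nat.card A₁ - 1) / 2 + (Nat.card A₂ - 1) / 4 + (Nat.card A₃ - 1) / 4 ≤ 11)) ∧
      ∀ O : Finset (ConjClasses G), (∀ C ∈ O, C ∉ torusClasses A₁ ∪ torusClasses A₂ ∪ torusClasses A₃) →
        O.card ≤ 4 + k := by
  haveI := Fintype.ofFinite (Cfsg.IrrCharacter G)
  obtain ⟨F₁⟩ := exists_fam h₁ (by omega)
  obtain ⟨F₂⟩ := exists_fam h₂ (by omega)
  obtain ⟨F₃⟩ := exists_fam h₃ (by omega)
  have c₁ := F₁.card_eq
  have c₂ := F₂.card_eq
  have c₃ := F₃.card_eq
  rw [e₁] at c₁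
  rw [e₂] at c₂
  rw [e₃] at c₃
  set n₁ := Nat.card A₁
  set n₂ := Nat.card A₂
  set n₃ := Nat.card A₃
  rw [show (n₁ - 1) / 2 = F₁.n by omega, show (n₂ - 1) / 4 = F₂.n by omega, show (n₃ - 1) / 4 = F₃.n by omega]
  set S := F₁.n + F₂.n + F₃.n with hS
  set M := n₁ * n₂ * n₃ with hM
  have hMpos : 0 < M := by positivity
  obtain ⟨E, hE1, hEc, hEv⟩ := exists_small_support h₁ h₂ h₃ F₁ F₂ F₃ a₁₂ a₁₃ a₂₃ e₁ e₂ e₃
  set Z := (Finset.univ : Finset (Cfsg.IrrCharacter G)) \ E with hZ
  have hco₁₂ := coprime_of_apart h₁ h₂ a₁₂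
  have hco₁₃ := coprime_of_apart h₁ h₃ a₁₃
  have hco₂₃ := coprime_of_apart h₂ h₃ a₂₃
  have hdvd : ∀ χ ∈ Z, M ∣ deg χ := fun χ hχ => by
    obtain ⟨v₁, v₂, v₃⟩ := hEv χ (Finset.mem_sdiff.1 hχ).2
    exact Nat.Coprime.mul_dvd_of_dvd_of_dvd (Nat.Coprime.mul_left hco₁₃ hco₂₃)
      (Nat.Coprime.mul_dvd_of_dvd_of_dvd hco₁₂ (card_dvd_deg χ v₁) (card_dvd_deg χ v₂)) (card_dvd_deg χ v₃)
  have hsplit : ∀ f : Cfsg.IrrCharacter G → ℕ,
      ∑ χ, f χ = f (trivChar G) + ∑ χ ∈ E.erase (trivChar G), f χ + ∑ χ ∈ Z, f χ := fun f => by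
    rw [Finset.add_sum_erase E f hE1, hZ, ← Finset.sum_sdiff (Finset.subset_univ E), add_comm]
  have hsq := hsplit fun χ => deg χ * deg χ
  rw [sum_deg_sq, deg_triv] at hsq
  have hge : ∀ χ ∈ Z, M * M ≤ deg χ * deg χ := fun χ hχ => by
    have := Nat.le_of_dvd (deg_spec χ).1 (hdvd χ hχ)
    exact Nat.mul_le_mul this this
  have hkM : Z.card * (M * M) ≤ ∑ χ ∈ Z, deg χ * deg χ := by
    simpa using Finset.card_nsmul_le_sum Z _ _ hge
  have hord' : Nat.card G ≤ 3 * (M * M) := by rw [← sq]; exact hord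
  have hk2 : Z.card ≤ 2 := by
    by_contra h
    have : 3 * (M * M) ≤ Z.card * (M * M) := Nat.mul_le_mul_right _ (by omega)
    omega
  have hdeg : ∀ χ ∈ Z, deg χ = M := by
    intro χ hχ
    obtain ⟨u, hu⟩ := hdvd χ hχ
    have h1 : deg χ * deg χ < 3 * (M * M) := by
      have := Finset.single_le_sum (f := fun χ => deg χ * deg χ) (fun x _ => Nat.zero_le _) hχ
      omega
    rw [hu] at h1 ⊢
    have h2 : u * u < 3 := by
      refine Nat.lt_of_mul_lt_mul_right (a := M * M) ?_
      calc u * u * (M * M) = M * u * (M * u) := by ring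
        _ < _ := h1
    have hu1 : u = 1 := by
      have hu0 : u ≠ 0 := fun e => by
        have := (deg_spec χ).1; rw [hu, e, mul_zero] at this; exact lt_irrefl 0 this
      have : u < 2 := by
        by_contra hu2
        have := Nat.mul_le_mul (not_lt.1 hu2) (not_lt.1 hu2)
        omega
      omega
    rw [hu1, mul_one]
  refine ⟨Z.card, hk2, by rw [sq]; omega, fun hk0 => ?_, fun O hO => ?_⟩
  · have hI := card_invols_le (G := G)
    rw [hsplit deg, deg_triv, Finset.sum_congr rfl hdeg, Finset.sum_const, smul_eq_mul] at hI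
    set P := ∑ χ ∈ E.erase (trivChar G), deg χ with hP
    have hP2 : P * P ≤ (S + 3) * ∑ χ ∈ E.erase (trivChar G), deg χ * deg χ := by
      have h := sq_sum_le_card_mul_sum_sq (s := E.erase (trivChar G)) (f := deg)
      simp only [sq, Nat.cast_id] at h
      refine h.trans (Nat.mul_le_mul_right _ ?_)
      rw [Finset.card_erase_of_mem hE1]; omega
    have hpairs := sum_le_card_invols_sq h₁ h₂ h₃ a₁₂ a₁₃ a₂₃ (by rw [e₁]) (by rw [e₂]; norm_num) (by rw [e₃]; norm_num)
    have hidx : ∀ {A : Subgroup G} (hA : SelfCent A) (F : Fam A),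
        Nat.card G * F.n ≤ (torus A).card * Nat.card A := by
      intro A hA F
      refine le_trans (le_of_eq ?_) (Nat.mul_le_mul_right _ (card_torus hA))
      have h1 := Subgroup.card_mul_index (Subgroup.normalizer (A : Set G))
      rw [← card_normalizer A] at h1
      rw [show Nat.card A - 1 = F.n * A.relIndex (Subgroup.normalizer (A : Set G)) by
        rw [← F.card_eq, Nat.add_sub_cancel], ← h1]
      ring
    have hGS : Nat.card G * S ≤ (invols G).card * (invols G).card := by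
      rw [hS, mul_add, mul_add]
      exact le_trans (add_le_add (add_le_add (hidx h₁ F₁) (hidx h₂ F₂)) (hidx h₃ F₃)) hpairs
    refine numeric_bound hMpos (show Z.card = 1 ∨ Z.card = 2 by omega) (by rw [sq]; exact hord') hGS
      (P := P) (by omega) ?_
    have h2 : (S + 3) * (∑ χ ∈ E.erase (trivChar G), deg χ * deg χ) + (S + 3) * (Z.card * (M * M)) ≤
        (S + 3) * Nat.card G := by
      rw [← mul_add]; exact Nat.mul_le_mul_left _ (by omega)
    rw [sq]; omega
  · have hclass : Fintype.card (Cfsg.IrrCharacter G) = Nat.card (ConjClasses G) := by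
      rw [← Nat.card_eq_fintype_card, card_irrCharacter]
    haveI : Fintype (ConjClasses G) := Fintype.ofFinite _
    have t₁ := le_card_torusClasses h₁
    have t₂ := le_card_torusClasses h₂
    have t₃ := le_card_torusClasses h₃
    rw [e₁] at t₁
    rw [e₂] at t₂
    rw [e₃] at t₃
    have hd : ∀ {A B : Subgroup G}, Apart A B → Disjoint (torusClasses A) (torusClasses B) := by
      intro A B hAB
      rw [Finset.disjoint_left]
      intro C h h'
      obtain ⟨x, hx, rfl⟩ := Finset.mem_image.1 h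
      obtain ⟨y, hy, hxy⟩ := Finset.mem_image.1 h'
      obtain ⟨c, rfl⟩ := isConj_iff.mp (ConjClasses.mk_eq_mk_iff_isConj.mp hxy)
      obtain ⟨hy1, g, hg⟩ := mem_torus.1 hy
      refine Finset.disjoint_left.1 (disjoint_torus hAB) hx (mem_torus.2 ⟨(mem_torus.1 hx).1, g * c⁻¹, ?_⟩)
      simpa [mul_assoc] using hg
    have hU : (torusClasses A₁ ∪ torusClasses A₂ ∪ torusClasses A₃).card =
        (torusClasses A₁).card + (torusClasses A₂).card + (torusClasses A₃).card := by
      rw [Finset.card_union_of_disjoint (Finset.disjoint_union_left.2 ⟨hd a₁₃, hd a₂₃⟩),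
        Finset.card_union_of_disjoint (hd a₁₂)]
    have hle := Finset.card_le_univ (O ∪ (torusClasses A₁ ∪ torusClasses A₂ ∪ torusClasses A₃))
    rw [Finset.card_union_of_disjoint (Finset.disjoint_left.2 hO), hU, ← Nat.card_eq_fintype_card (α := ConjClasses G),
      ← hclass, ← Finset.card_univ] at hle
    have hEZ : (Finset.univ : Finset (Cfsg.IrrCharacter G)).card = E.card + Z.card := by
      rw [hZ, Finset.card_sdiff_of_subset (Finset.subset_univ E)]
      have := Finset.card_le_univ E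
      rw [Finset.card_univ]
      omega
    omega

end CfsgLib.SuzukiThreeCC
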