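import Cfsg.Agent.Lib.Char.CAFamily

/-!
# The exceptional family of a self-centralizing subgroup, in a group of any order

The parity-free version of `CfsgLib.CA.Fam`, with the inner products of the associated vanishing generalized
characters.
-/

set_option autoImplicit false
set_option linter.all false

namespace CfsgLib.SuzukiThreeCC

open CfsgLib.Char CfsgLib.CA
open scoped ComplexConjugate Classical

variable {G : Type*} [Group G] [Fintype G] {A : Subgroup G}

local notation "NA" => Subgroup.normalizer (A : Set G)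

/-- Exceptional characters attached to `A`. -/
structure Fam (A : Subgroup G) where
  n : ℕ
  z : Fin n
  two_le : 2 ≤ n
  card_eq : n * A.relIndex (Subgroup.normalizer (A : Set G)) + 1 = Nat.card A
  r : Fin n → Cfsg.IrrCharacter A
  r_ne : ∀ j, r j ≠ trivChar A
  r_orb : ∀ j k, j ≠ k → ∀ g : Subgroup.normalizer (A : Set G),
    (r j : A → ℂ) ∘ cj A g ≠ (r k : A → ℂ)
  r_all : ∀ lam : Cfsg.IrrCharacter A, lam ≠ trivChar A →
    ∃ j, ∃ g : Subgroup.normalizer (A : Set G), (r j : A → ℂ) ∘ cj A g = (lam : A → ℂ)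
  r_card : ∀ j, Nat.card {lam : Cfsg.IrrCharacter A //
      ∃ g : Subgroup.normalizer (A : Set G), (r j : A → ℂ) ∘ cj A g = (lam : A → ℂ)} =
        A.relIndex (Subgroup.normalizer (A : Set G))
  sgn : ℤ
  sgn_sq : sgn * sgn = 1
  θ : Fin n → Cfsg.IrrCharacter G
  θ_inj : Function.Injective θ
  rel : ∀ j, Cfsg.indFun A ((r j : A → ℂ) - (r z : A → ℂ)) =
    (sgn : ℂ) • ((θ j : G → ℂ) - (θ z : G → ℂ))

variable (hA : SelfCent A)
include hA

theorem exists_fam (hbig : A.relIndex (Subgroup.normalizer (A : Set G)) + 1 < Nat.card A) :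
    Nonempty (Fam A) := by
  obtain ⟨n, r, hcard, hrne, horb, hall, hrc⟩ := exists_reps hA
  have h2 : 2 ≤ n := by
    by_contra hn
    interval_cases n <;> omega
  let z : Fin n := ⟨0, by omega⟩
  let τ : Fin n → G → ℂ := fun j => Cfsg.indFun A ((r j : A → ℂ) - (r z : A → ℂ))
  have hz : ∀ j, ((r j : A → ℂ) - (r z : A → ℂ)) 1 = 0 := fun j => by
    rw [Pi.sub_apply, degree_one hA, degree_one hA, sub_self]
  have hgram : ∀ i j, i ≠ z → j ≠ z →
      Cfsg.classInner (τ i) (τ j) = if i = j then 2 else 1 := by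
    intro i j hi hj
    have h := classInner_indFun hA ((r i : A → ℂ) - (r z : A → ℂ)) (hz j)
    simp only [sub_eq_add_neg (G := A → ℂ)] at h
    simp only [← sub_eq_add_neg] at h
    have hcomp : ∀ g : NA, ((r j : A → ℂ) - (r z : A → ℂ)) ∘ cj A g =
        (r j : A → ℂ) ∘ cj A g - (r z : A → ℂ) ∘ cj A g := fun g => rfl
    simp only [hcomp, classInner_sub_left, classInner_sub_right, Finset.sum_sub_distrib,
      CfsgLib.CA.sum_classInner_comp hA hrne horb, if_neg hj, if_neg (Ne.symm hi), if_pos] at h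
    have hA0 : (Nat.card A : ℂ) ≠ 0 := Nat.cast_ne_zero.mpr Nat.card_pos.ne'
    refine mul_left_cancel₀ hA0 (h.trans ?_)
    by_cases hij : i = j
    · subst hij; simp; ring
    · simp [hij, Ne.symm hij]
  obtain ⟨ε, hε, μ, hμ, hinj, hrel⟩ := Cfsg.Agent.S0198.result n z τ
    (by simp [τ, indFun_zero])
    (fun j => IsGen.indFun (IsGen.sub (IsGen.of_irr (r j).2) (IsGen.of_irr (r z).2)))
    (fun j => by simp only [τ]; rw [indFun_apply_one, hz j, mul_zero]) hgram
  obtain ⟨s, hs, hs2⟩ : ∃ s : ℤ, (s : ℂ) = ε ∧ s * s = 1 := by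
    rcases hε with rfl | rfl
    · exact ⟨1, by simp, rfl⟩
    · exact ⟨-1, by simp, rfl⟩
  exact ⟨{ n := n, z := z, two_le := h2, card_eq := hcard, r := r, r_ne := hrne,
           r_orb := horb, r_all := hall, r_card := hrc, sgn := s, sgn_sq := hs2,
           θ := fun j => ⟨μ j, hμ j⟩, θ_inj := fun a b e => hinj (congrArg Subtype.val e),
           rel := fun j => by rw [hs]; exact hrel j }⟩

/-- The character `ind (1 - r z)`. -/
noncomputable def psi (_hA : SelfCent A) (F : Fam A) : G → ℂ :=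
  Cfsg.indFun A ((fun _ : A => (1 : ℂ)) - (F.r F.z : A → ℂ))

omit hA in
theorem base_one (hA : SelfCent A) (F : Fam A) :
    ((fun _ : A => (1 : ℂ)) - (F.r F.z : A → ℂ)) 1 = 0 := by
  rw [Pi.sub_apply, degree_one hA, sub_self]

omit hA in
theorem diff_one (hA : SelfCent A) (F : Fam A) (j : Fin F.n) :
    ((F.r j : A → ℂ) - (F.r F.z : A → ℂ)) 1 = 0 := by
  rw [Pi.sub_apply, degree_one hA, degree_one hA, sub_self]

theorem psi_gen (F : Fam A) : Cfsg.IsGeneralizedCharacter G (psi hA F) :=
  IsGen.indFun (IsGen.sub (IsGen.of_isCharacter isCharacter_one) (IsGen.of_irr (F.r F.z).2))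

theorem psi_inner_self (F : Fam A) :
    Cfsg.classInner (psi hA F) (psi hA F) =
      (A.relIndex NA : ℂ) + 1 := by
  have h := classInner_indFun hA ((fun _ : A => (1 : ℂ)) - (F.r F.z : A → ℂ)) (base_one hA F)
  have hcomp : ∀ g : NA, ((fun _ : A => (1 : ℂ)) - (F.r F.z : A → ℂ)) ∘ cj A g =
      (fun _ : A => (1 : ℂ)) - (F.r F.z : A → ℂ) ∘ cj A g := fun g => rfl
  simp only [hcomp, classInner_sub_left, classInner_sub_right, Finset.sum_sub_distrib,
    CfsgLib.CA.sum_classInner_comp hA F.r_ne F.r_orb, if_pos, classInner_triv_self,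
    classInner_triv_comp _ (F.r_ne F.z), classInner_triv_right _ (F.r_ne F.z),
    Finset.sum_const, nsmul_eq_mul, smul_zero, mul_zero] at h
  have h2 := Subgroup.index_mul_card (A.subgroupOf NA)
  rw [Nat.card_congr (Subgroup.subgroupOfEquivOfLe (Subgroup.le_normalizer (H := A))).toEquiv,
    ← Subgroup.relIndex, Nat.card_eq_fintype_card (α := NA)] at h2
  rw [Finset.card_univ, ← h2] at h
  refine mul_left_cancel₀ (Nat.cast_ne_zero.mpr (Nat.card_pos (α := A)).ne' : (Nat.card A : ℂ) ≠ 0)
    (h.trans ?_)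
  push_cast
  ring

theorem psi_triv (F : Fam A) : Cfsg.classInner (psi hA F) (trivChar G : G → ℂ) = 1 := by
  rw [psi, frobenius_reciprocity A _ (IsIrr.isClassFunction (trivChar G).2), classInner_sub_left]
  simp only [trivChar_apply]
  rw [classInner_triv_self, classInner_triv_right _ (F.r_ne F.z), sub_zero]

theorem psi_tau (F : Fam A) {j : Fin F.n} (hj : j ≠ F.z) :
    Cfsg.classInner (psi hA F) (Cfsg.indFun A ((F.r j : A → ℂ) - (F.r F.z : A → ℂ))) = 1 := by
  have h := classInner_indFun hA ((fun _ : A => (1 : ℂ)) - (F.r F.z : A → ℂ)) (diff_one hA F j)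
  have hcomp : ∀ g : NA, ((F.r j : A → ℂ) - (F.r F.z : A → ℂ)) ∘ cj A g =
      (F.r j : A → ℂ) ∘ cj A g - (F.r F.z : A → ℂ) ∘ cj A g := fun g => rfl
  simp only [hcomp, classInner_sub_left, classInner_sub_right, Finset.sum_sub_distrib,
    CfsgLib.CA.sum_classInner_comp hA F.r_ne F.r_orb, classInner_triv_comp _ (F.r_ne _), if_pos,
    if_neg hj, Finset.sum_const_zero] at h
  refine mul_left_cancel₀ (Nat.cast_ne_zero.mpr (Nat.card_pos (α := A)).ne' : (Nat.card A : ℂ) ≠ 0)
    (h.trans ?_)
  ring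

omit hA in
theorem classInner_comp_cj {h f : A → ℂ} (g : NA) (hh : h ∘ cj A g = h) :
    Cfsg.classInner h (f ∘ cj A g) = Cfsg.classInner h f := by
  conv_lhs => rw [← hh]
  simp only [Cfsg.classInner, Function.comp_apply]
  congr 1
  exact Equiv.sum_comp (cj A g).toEquiv fun a => h a * conj (f a)

omit hA in
theorem res_comp_cj {χ : G → ℂ} (hχ : Cfsg.IsClassFunction G χ) (g : NA) :
    (fun x : A => χ x) ∘ cj A g = fun x : A => χ x := by
  funext x
  rw [Function.comp_apply, coe_cj, hχ]

theorem inner_orbit (F : Fam A) (χ : Cfsg.IrrCharacter G) {j : Fin F.n}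
    {lam : Cfsg.IrrCharacter A} (h : ∃ g : NA, (F.r j : A → ℂ) ∘ cj A g = (lam : A → ℂ)) :
    Cfsg.classInner (fun x : A => (χ : G → ℂ) x) (lam : A → ℂ) =
      Cfsg.classInner (fun x : A => (χ : G → ℂ) x) (F.r F.z : A → ℂ) +
        (F.sgn : ℂ) * ((if χ = F.θ j then 1 else 0) - (if χ = F.θ F.z then 1 else 0)) := by
  obtain ⟨g, hg⟩ := h
  rw [← hg, classInner_comp_cj g (res_comp_cj (IsIrr.isClassFunction χ.2) g), ← sub_eq_iff_eq_add',
    ← classInner_sub_right, ← classInner_conj_symm,
    ← frobenius_reciprocity A _ (IsIrr.isClassFunction χ.2), F.rel, classInner_conj_symm,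
    classInner_smul_right, classInner_sub_right, classInner_irr, classInner_irr, map_intCast]

/-- Outside its own family, a character is constant on the non-identity elements of `A`. -/
theorem apply_eq_psi (F : Fam A) (χ : Cfsg.IrrCharacter G) (hχ : ∀ j, χ ≠ F.θ j) {a : A}
    (ha : a ≠ 1) : (χ : G → ℂ) a = conj (Cfsg.classInner (psi hA F) (χ : G → ℂ)) := by
  have := Fintype.ofFinite (Cfsg.IrrCharacter A)
  set h : A → ℂ := fun x => (χ : G → ℂ) x with hh
  set β := conj (Cfsg.classInner (psi hA F) (χ : G → ℂ)) with hβ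
  have hβ' : β = Cfsg.classInner h (trivChar A : A → ℂ) -
      Cfsg.classInner h (F.r F.z : A → ℂ) := by
    rw [hβ, psi, frobenius_reciprocity A _ (IsIrr.isClassFunction χ.2), classInner_conj_symm,
      classInner_sub_right]
    rfl
  have hcl : Cfsg.IsClassFunction A (h - β • (trivChar A : A → ℂ)) := fun x y => by
    rw [comm hA y x, mul_inv_cancel_right]
  have key : ∀ lam : Cfsg.IrrCharacter A,
      Cfsg.classInner (h - β • (trivChar A : A → ℂ)) (lam : A → ℂ) =
        Cfsg.classInner h (F.r F.z : A → ℂ) := by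
    intro lam
    rw [classInner_sub_left, classInner_smul_left, classInner_irr]
    by_cases hlam : lam = trivChar A
    · rw [hlam, if_pos rfl, hβ']; ring
    · obtain ⟨j, hj⟩ := F.r_all lam hlam
      rw [if_neg (Ne.symm hlam), mul_zero, sub_zero, inner_orbit hA F χ hj, if_neg (hχ j),
        if_neg (hχ F.z), sub_zero, mul_zero, add_zero]
  have h0 := classFunction_apply_eq_sum hcl a
  simp only [key, ← Finset.mul_sum] at h0
  have hreg : ∑ lam : Cfsg.IrrCharacter A, (lam : A → ℂ) a = 0 := by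
    have := sum_degree_mul_apply_of_ne_one ha
    simpa [degree_one hA] using this
  rw [hreg, mul_zero] at h0
  simpa [sub_eq_zero, hh] using h0

end CfsgLib.SuzukiThreeCC
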