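import Cfsg.Agent.Lib.Recog.SuzukiThreeCC.CIT
import Cfsg.Agent.Lib.CIT.SuzukiRecog.General
import Cfsg.Agent.Lib.Recog.PSLTwoOrders
import Cfsg.Agent.Lib.Classical.Dickson.SubgroupFacts
import Cfsg.Agent.S0348

/-!
# Suzuki's characterization by a self-centralization system

Three self-centralizing subgroups of automizer orders `2, 4, 4`, large against the group, force a Suzuki group.
-/

set_option autoImplicit false
set_option linter.all false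

namespace CfsgLib.SuzukiThreeCC

open CfsgLib.CA

variable {G : Type*} [Group G] [Fintype G]

/-- `PSL(2, q)` has no three coprime self-centralizing subgroups of odd order. -/
theorem not_psl_two {A₁ A₂ A₃ : Subgroup G} (h₁ : SelfCent A₁) (h₂ : SelfCent A₂) (h₃ : SelfCent A₃)
    (hco₁₂ : Nat.Coprime (Nat.card A₁) (Nat.card A₂)) (hco₁₃ : Nat.Coprime (Nat.card A₁) (Nat.card A₃))
    (hco₂₃ : Nat.Coprime (Nat.card A₂) (Nat.card A₃))
    (o₁ : Odd (Nat.card A₁)) (o₂ : Odd (Nat.card A₂)) (o₃ : Odd (Nat.card A₃))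
    (b₁ : 5 ≤ Nat.card A₁) (b₂ : 9 ≤ Nat.card A₂) (b₃ : 9 ≤ Nat.card A₃)
    {F : Type} [Field F] [Fintype F] (e : G ≃* Matrix.ProjectiveSpecialLinearGroup (Fin 2) F) : False := by
  classical
  set q := Fintype.card F with hq
  obtain ⟨p, hpc⟩ := CharP.exists F
  haveI : Fact p.Prime := ⟨CharP.char_is_prime F p⟩
  have hcard := CfsgLib.Classical.Dickson.gcd_mul_card_psl (F := F) hq.symm
  rw [← Nat.card_congr e.toEquiv] at hcard
  have hM : Nat.card A₁ * Nat.card A₂ * Nat.card A₃ ∣ Nat.card G :=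
    Nat.Coprime.mul_dvd_of_dvd_of_dvd (Nat.Coprime.mul_left hco₁₃ hco₂₃)
      (Nat.Coprime.mul_dvd_of_dvd_of_dvd hco₁₂ A₁.card_subgroup_dvd_card A₂.card_subgroup_dvd_card)
      A₃.card_subgroup_dvd_card
  have hq4 : 4 ≤ q := by
    have h1 : 1 < q := Fintype.one_lt_card
    by_contra hlt
    have h405 := Nat.le_of_dvd Nat.card_pos hM
    have h5 : 5 * 9 * 9 ≤ Nat.card A₁ * Nat.card A₂ * Nat.card A₃ := Nat.mul_le_mul (Nat.mul_le_mul b₁ b₂) b₃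
    rcases (show q = 2 ∨ q = 3 by omega) with e2 | e2 <;> rw [e2] at hcard <;> norm_num [-Nat.card_eq_fintype_card] at hcard <;> omega
  have hrange := CfsgLib.Recog.PSLTwoOrders.range_orderOf (F := F) p hq4
  rw [← hq] at hrange
  set a := (q - 1) / Nat.gcd 2 (q - 1) with ha
  set b := (q + 1) / Nat.gcd 2 (q - 1) with hb
  have hor : ∀ x : G, orderOf x = p ∨ orderOf x ∣ a ∨ orderOf x ∣ b := fun x => by
    have hx : orderOf (e x) ∈ Set.range (orderOf : Matrix.ProjectiveSpecialLinearGroup (Fin 2) F → ℕ) := ⟨_, rfl⟩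
    rw [hrange, MulEquiv.orderOf_eq] at hx
    exact hx
  have hex : ∀ m, m = p ∨ m = a ∨ m = b → ∃ x : G, orderOf x = m := fun m hm => by
    obtain ⟨x, hx⟩ : m ∈ Set.range (orderOf : Matrix.ProjectiveSpecialLinearGroup (Fin 2) F → ℕ) := by
      rw [hrange]
      rcases hm with rfl | rfl | rfl
      exacts [Or.inl rfl, Or.inr (Or.inl dvd_rfl), Or.inr (Or.inr dvd_rfl)]
    exact ⟨e.symm x, by rw [MulEquiv.orderOf_eq, hx]⟩
  have hpick : ∀ {A : Subgroup G}, SelfCent A → 1 < Nat.card A →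
      ∃ m, (m = p ∨ m = a ∨ m = b) ∧ m ∣ Nat.card A ∧ 1 < m := by
    intro A hA hA1
    obtain ⟨l, hl, hlA⟩ := Nat.exists_prime_and_dvd hA1.ne'
    haveI := Fact.mk hl
    obtain ⟨x, hx⟩ := exists_prime_orderOf_dvd_card' l hlA
    rw [← Subgroup.orderOf_coe] at hx
    have key : ∀ m, (m = p ∨ m = a ∨ m = b) → l ∣ m → ∃ m, (m = p ∨ m = a ∨ m = b) ∧ m ∣ Nat.card A ∧ 1 < m := by
      intro m hm hlm
      obtain ⟨w, hw⟩ := hex m hm
      refine ⟨m, hm, hw ▸ orderOf_dvd_of_prime_dvd hA hl hlA (hw.symm ▸ hlm), ?_⟩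
      have hm0 : m ≠ 0 := by rw [← hw]; exact (orderOf_pos w).ne'
      exact lt_of_lt_of_le hl.one_lt (Nat.le_of_dvd (Nat.pos_of_ne_zero hm0) hlm)
    rcases hor (x : G) with h | h | h <;> rw [hx] at h
    exacts [key p (Or.inl rfl) h.dvd, key a (Or.inr (Or.inl rfl)) h, key b (Or.inr (Or.inr rfl)) h]
  obtain ⟨m₁, u₁, v₁, w₁⟩ := hpick h₁ (by omega)
  obtain ⟨m₂, u₂, v₂, w₂⟩ := hpick h₂ (by omega)
  obtain ⟨m₃, u₃, v₃, w₃⟩ := hpick h₃ (by omega)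
  have d₁₂ : m₁ ≠ m₂ := fun h => w₁.ne' (Nat.eq_one_of_dvd_coprimes hco₁₂ v₁ (h ▸ v₂))
  have d₁₃ : m₁ ≠ m₃ := fun h => w₁.ne' (Nat.eq_one_of_dvd_coprimes hco₁₃ v₁ (h ▸ v₃))
  have d₂₃ : m₂ ≠ m₃ := fun h => w₂.ne' (Nat.eq_one_of_dvd_coprimes hco₂₃ v₂ (h ▸ v₃))
  have hm₁ := Nat.odd_iff.1 (o₁.of_dvd_nat v₁)
  have hm₂ := Nat.odd_iff.1 (o₂.of_dvd_nat v₂)
  have hm₃ := Nat.odd_iff.1 (o₃.of_dvd_nat v₃)
  obtain ⟨hpo, hao, hbo⟩ : p % 2 = 1 ∧ a % 2 = 1 ∧ b % 2 = 1 := by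
    rcases u₁ with rfl | rfl | rfl <;> rcases u₂ with rfl | rfl | rfl <;> rcases u₃ with rfl | rfl | rfl <;>
      first | exact absurd rfl d₁₂ | exact absurd rfl d₁₃ | exact absurd rfl d₂₃ | omega
  obtain ⟨f, hf, hqf⟩ := CfsgLib.Classical.Dickson.exists_char_pow (F := F) p
  rw [← hq] at hqf
  have hqo : q % 2 = 1 := by rw [hqf]; exact Nat.odd_iff.1 ((Nat.odd_iff.2 hpo).pow)
  have hg : Nat.gcd 2 (q - 1) = 2 := Nat.gcd_eq_left (Nat.dvd_of_mod_eq_zero (by omega))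
  rw [ha, hg] at hao
  rw [hb, hg] at hbo
  omega

theorem isoSuzuki [IsSimpleGroup G] (hna : ¬ IsMulCommutative G) {A₁ A₂ A₃ : Subgroup G}
    (h₁ : SelfCent A₁) (h₂ : SelfCent A₂) (h₃ : SelfCent A₃)
    (a₁₂ : Apart A₁ A₂) (a₁₃ : Apart A₁ A₃) (a₂₃ : Apart A₂ A₃)
    (e₁ : A₁.relIndex (Subgroup.normalizer (A₁ : Set G)) = 2)
    (e₂ : A₂.relIndex (Subgroup.normalizer (A₂ : Set G)) = 4)
    (e₃ : A₃.relIndex (Subgroup.normalizer (A₃ : Set G)) = 4)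
    (hn₁ : 5 ≤ Nat.card A₁) (hn₂ : 5 < Nat.card A₂) (hn₃ : 5 < Nat.card A₃)
    (hord : Nat.card G ≤ 3 * (Nat.card A₁ * Nat.card A₂ * Nat.card A₃) ^ 2) : Cfsg.Lie.IsoSuzuki G := by
  classical
  have hC : CfsgLib.CIT.CIT G := fun t ht =>
    isPGroup_centralizer h₁ h₂ h₃ a₁₂ a₁₃ a₂₃ e₁ e₂ e₃ hn₁ hn₂ hn₃ hord ht
  have hco₁₂ := coprime_of_apart h₁ h₂ a₁₂
  have hco₁₃ := coprime_of_apart h₁ h₃ a₁₃
  have hco₂₃ := coprime_of_apart h₂ h₃ a₂₃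
  have o₁ := odd_card h₁ (by rw [e₁])
  have o₂ := odd_card h₂ (by rw [e₂]; norm_num)
  have o₃ := odd_card h₃ (by rw [e₃]; norm_num)
  have b₂ : 9 ≤ Nat.card A₂ := by
    obtain ⟨F⟩ := exists_fam h₂ (by omega)
    have := F.card_eq; rw [e₂] at this; omega
  have b₃ : 9 ≤ Nat.card A₃ := by
    obtain ⟨F⟩ := exists_fam h₃ (by omega)
    have := F.card_eq; rw [e₃] at this; omega
  have hab : ∃ a b : G, a * b ≠ b * a := by
    by_contra h
    push Not at h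
    exact hna ⟨⟨h⟩⟩
  rcases Cfsg.Agent.S0348.result hab hC with ⟨F, iF, iFt, -, ⟨e⟩⟩ | ⟨F, iF, iFt, hF, ⟨e⟩⟩ | hS
  · exact (not_psl_two h₁ h₂ h₃ hco₁₂ hco₁₃ hco₂₃ o₁ o₂ o₃ hn₁ b₂ b₃ e).elim
  · exfalso
    have hcard : Nat.card G = 20160 := by
      rw [Nat.card_congr e.toEquiv, CfsgLib.CIT.SuzukiRecog.card_psl_three_four hF]
    have hM : Nat.card A₁ * Nat.card A₂ * Nat.card A₃ ∣ Nat.card G :=
      Nat.Coprime.mul_dvd_of_dvd_of_dvd (Nat.Coprime.mul_left hco₁₃ hco₂₃)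
        (Nat.Coprime.mul_dvd_of_dvd_of_dvd hco₁₂ A₁.card_subgroup_dvd_card A₂.card_subgroup_dvd_card)
        A₃.card_subgroup_dvd_card
    rw [hcard, show 20160 = 64 * 315 by norm_num] at hM
    have h64 : Nat.Coprime (Nat.card A₁ * Nat.card A₂ * Nat.card A₃) (2 ^ 6) :=
      ((o₁.mul o₂).mul o₃).coprime_two_right.pow_right 6
    have h315 := Nat.le_of_dvd (by norm_num) (h64.dvd_of_dvd_mul_left hM)
    have h5 : 5 * 9 * 9 ≤ Nat.card A₁ * Nat.card A₂ * Nat.card A₃ := Nat.mul_le_mul (Nat.mul_le_mul hn₁ b₂) b₃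
    omega
  · obtain ⟨-, l, hl, hG⟩ := hS
    set q := 2 ^ (2 * l + 1) with hq
    have hq3 : q % 3 = 2 := by rw [hq, pow_succ, pow_mul, Nat.mul_mod, Nat.pow_mod]; norm_num
    have hG2 : 2 ∣ Nat.card G := by
      rw [hG]
      exact Dvd.dvd.mul_right (Dvd.dvd.mul_right (dvd_pow (dvd_pow_self 2 (by omega)) two_ne_zero) _) _
    have hG3 : ¬ 3 ∣ Nat.card G := by
      intro h3
      rw [hG] at h3
      have h1 : (q ^ 2 + 1) % 3 = 2 := by rw [Nat.add_mod, Nat.pow_mod, hq3]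
      have h2 : q ^ 2 % 3 = 1 := by rw [Nat.pow_mod, hq3]
      have hq1 : 1 ≤ q := Nat.one_le_two_pow
      clear_value q
      have h4 : (q - 1) % 3 = 1 := by omega
      have : q ^ 2 * (q ^ 2 + 1) * (q - 1) % 3 = 2 := by
        rw [Nat.mul_mod, Nat.mul_mod (q ^ 2), h1, h2, h4]
      omega
    obtain ⟨T, H, a, b, m, K⟩ := CfsgLib.CIT.SuzukiRecog.exists_kern_cit hna hC hG2 hG3
    letI := Fintype.ofFinite (G ⧸ Subgroup.normalizer (T : Set G))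
    exact CfsgLib.CIT.SuzukiRecog.isoSuzuki_of_kern K

end CfsgLib.SuzukiThreeCC
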