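import Mathlib.Tactic.NormNum.Prime

/-!
# Sieve certificates

For every admissible triple `(n₁, n₂, n₃)` with `n₂ < n₃`: the residue `g₀` of the cofactor modulo `n₁ n₂ n₃`,
and for `g₀ + n₁ n₂ n₃`, `g₀ + 2 n₁ n₂ n₃` two odd prime divisors (`0` where none is needed).
-/

set_option autoImplicit false

namespace CfsgLib.SuzukiThreeCC.Sieve

/-- The certificates. -/
def table : List (ℕ × ℕ × ℕ × ℕ × ℕ × ℕ × ℕ × ℕ) :=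
  [(5, 9, 13, 551, 71, 0, 0, 0),
   (5, 9, 17, 379, 11, 13, 0, 0),
   (5, 9, 29, 22, 0, 0, 47, 7),
   (5, 9, 37, 944, 0, 0, 0, 0),
   (5, 9, 41, 493, 0, 0, 0, 0),
   (5, 9, 49, 587, 349, 0, 0, 0),
   (5, 9, 53, 1351, 467, 0, 0, 0),
   (5, 9, 61, 1418, 0, 0, 11, 157),
   (5, 13, 17, 112, 0, 0, 0, 0),
   (5, 13, 29, 1666, 0, 0, 3, 151),
   (5, 13, 37, 127, 3, 211, 0, 0),
   (5, 13, 41, 1524, 0, 0, 0, 0),
   (5, 13, 49, 1311, 281, 0, 0, 0),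
   (5, 13, 53, 2138, 0, 0, 37, 61),
   (5, 13, 61, 2319, 1571, 0, 0, 0),
   (5, 17, 29, 1419, 971, 0, 0, 0),
   (5, 17, 37, 848, 0, 0, 0, 0),
   (5, 17, 41, 3336, 0, 0, 0, 0),
   (5, 17, 49, 3539, 3, 107, 0, 0),
   (5, 17, 53, 762, 0, 0, 7, 349),
   (5, 29, 37, 5339, 3, 223, 0, 0),
   (5, 29, 41, 5483, 2857, 0, 0, 0),
   (7, 9, 13, 76, 0, 0, 0, 0),
   (7, 9, 17, 992, 0, 0, 0, 0),
   (7, 9, 25, 1108, 0, 0, 0, 0),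
   (7, 9, 29, 575, 0, 0, 0, 0),
   (7, 9, 37, 151, 0, 0, 0, 0),
   (7, 9, 41, 1301, 971, 0, 0, 0),
   (7, 9, 53, 2396, 0, 0, 0, 0),
   (7, 9, 61, 3601, 1861, 0, 0, 0),
   (7, 13, 17, 522, 0, 0, 113, 0),
   (7, 13, 25, 1669, 17, 29, 0, 0),
   (7, 13, 29, 1944, 0, 0, 0, 0),
   (7, 13, 37, 503, 0, 0, 0, 0),
   (7, 13, 41, 1850, 0, 0, 3, 97),
   (7, 13, 45, 634, 0, 0, 1103, 0),
   (7, 13, 53, 346, 0, 0, 1249, 0),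
   (7, 17, 25, 1966, 0, 0, 1979, 0),
   (7, 17, 29, 591, 0, 0, 0, 0),
   (7, 17, 37, 1055, 0, 0, 0, 0),
   (7, 17, 41, 4673, 3, 199, 0, 0),
   (7, 17, 45, 5006, 0, 0, 3929, 0),
   (7, 17, 53, 1574, 0, 0, 3547, 0),
   (7, 25, 29, 2643, 0, 0, 0, 0),
   (7, 25, 37, 4706, 0, 0, 2207, 0),
   (7, 25, 41, 5267, 0, 0, 0, 0),
   (7, 29, 37, 288, 0, 0, 0, 0),
   (7, 29, 41, 859, 0, 0, 0, 0),
   (9, 13, 17, 1732, 0, 0, 0, 0),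
   (9, 13, 25, 1262, 0, 0, 7, 127),
   (9, 13, 29, 2266, 0, 0, 31, 73),
   (9, 13, 37, 2048, 0, 0, 0, 0),
   (9, 13, 41, 136, 0, 0, 0, 0),
   (9, 13, 49, 1790, 0, 0, 1657, 0),
   (9, 13, 53, 805, 0, 0, 0, 0),
   (9, 17, 25, 2143, 373, 0, 0, 0),
   (9, 17, 29, 1610, 0, 0, 2621, 0),
   (9, 17, 37, 2428, 0, 0, 0, 0),
   (9, 17, 41, 2318, 0, 0, 929, 0),
   (9, 17, 49, 2614, 0, 0, 31, 71),
   (9, 25, 29, 364, 0, 0, 0, 0),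
   (9, 25, 37, 4688, 0, 0, 0, 0),
   (9, 25, 41, 1591, 13, 0, 0, 0),
   (9, 29, 37, 1297, 0, 0, 0, 0),
   (11, 9, 13, 995, 0, 0, 0, 0),
   (11, 9, 17, 1285, 7, 53, 0, 0),
   (11, 9, 25, 1646, 0, 0, 17, 97),
   (11, 9, 29, 1576, 0, 0, 0, 0),
   (11, 9, 37, 3638, 0, 0, 2741, 0),
   (11, 9, 41, 895, 0, 0, 0, 0),
   (11, 9, 49, 3434, 0, 0, 821, 0),
   (11, 9, 53, 3823, 0, 0, 0, 0),
   (11, 13, 17, 1839, 0, 0, 0, 0),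
   (11, 13, 25, 2303, 0, 0, 0, 0),
   (11, 13, 29, 723, 0, 0, 0, 0),
   (11, 13, 37, 14, 0, 0, 3, 883),
   (11, 13, 41, 5199, 0, 0, 0, 0),
   (11, 13, 45, 3488, 0, 0, 0, 0),
   (11, 13, 49, 1175, 0, 0, 0, 0),
   (11, 17, 25, 3492, 0, 0, 0, 0),
   (11, 17, 29, 2617, 3, 5, 0, 0),
   (11, 17, 37, 5589, 53, 59, 0, 0),
   (11, 17, 41, 4241, 13, 229, 0, 0),
   (11, 17, 45, 6802, 0, 0, 7, 211),
   (11, 25, 29, 2341, 2579, 0, 0, 0),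
   (11, 25, 37, 3247, 0, 0, 0, 0),
   (13, 9, 17, 593, 0, 0, 0, 0),
   (13, 9, 25, 787, 29, 0, 0, 0),
   (13, 9, 29, 2498, 0, 0, 11, 211),
   (13, 9, 37, 2233, 0, 0, 0, 0),
   (13, 9, 41, 3539, 521, 0, 0, 0),
   (13, 9, 49, 4093, 0, 0, 0, 0),
   (13, 17, 25, 1124, 0, 0, 0, 0),
   (13, 17, 29, 2897, 0, 0, 0, 0),
   (13, 17, 37, 3955, 3, 337, 0, 0),
   (13, 17, 41, 5197, 0, 0, 0, 0),
   (13, 25, 29, 8952, 0, 0, 0, 0),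
   (15, 13, 17, 2542, 0, 0, 2293, 0),
   (15, 13, 29, 2566, 0, 0, 3469, 0),
   (15, 13, 37, 7097, 1789, 0, 0, 0),
   (15, 13, 41, 6904, 0, 0, 0, 0),
   (15, 17, 29, 6389, 1723, 0, 0, 0),
   (15, 17, 37, 73, 2377, 0, 0, 0),
   (17, 9, 13, 458, 0, 0, 1109, 0),
   (17, 9, 25, 893, 0, 0, 0, 0),
   (17, 9, 29, 3814, 0, 0, 13, 61),
   (17, 9, 37, 4019, 5, 11, 0, 0),
   (17, 9, 41, 3097, 0, 0, 0, 0),
   (17, 13, 25, 324, 0, 0, 0, 0),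
   (17, 13, 29, 2375, 3, 61, 0, 0),
   (17, 13, 37, 4621, 0, 0, 0, 0),
   (19, 9, 13, 1432, 0, 0, 0, 0),
   (19, 9, 17, 2282, 0, 0, 11, 23),
   (19, 9, 25, 2824, 0, 0, 0, 0),
   (19, 9, 29, 2918, 0, 0, 3209, 0),
   (19, 9, 37, 4963, 0, 0, 0, 0),
   (19, 13, 17, 3170, 0, 0, 3, 241),
   (19, 13, 25, 6157, 3083, 0, 0, 0),
   (19, 13, 29, 240, 0, 0, 0, 0),
   (19, 17, 25, 98, 0, 0, 3, 677),
   (19, 17, 29, 6990, 0, 0, 59, 109),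
   (21, 13, 17, 3931, 2143, 0, 0, 0),
   (21, 13, 25, 773, 0, 0, 0, 0),
   (21, 13, 29, 271, 23, 89, 0, 0),
   (21, 17, 25, 3772, 0, 0, 0, 0),
   (23, 9, 13, 2531, 0, 0, 0, 0),
   (23, 9, 17, 109, 907, 0, 0, 0),
   (23, 9, 25, 1697, 859, 0, 0, 0),
   (23, 9, 29, 5917, 5, 149, 0, 0),
   (23, 13, 17, 1850, 0, 0, 751, 0),
   (23, 13, 25, 4846, 0, 0, 7, 101),
   (25, 9, 13, 2731, 7, 101, 0, 0),
   (25, 9, 17, 3809, 0, 0, 0, 0),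
   (25, 13, 17, 3912, 0, 0, 0, 0),
   (27, 13, 17, 5071, 0, 0, 0, 0),
   (29, 9, 13, 2786, 0, 0, 2393, 0),
   (29, 9, 17, 2545, 0, 0, 0, 0),
   (31, 9, 13, 2059, 0, 0, 0, 0)]

/-- The primes occurring in the certificates. -/
def primes : List ℕ :=
  [3, 5, 7, 11, 13, 17, 23, 29, 31, 37, 47, 53, 59, 61, 71, 73, 89, 97, 101, 107, 109, 113, 127, 149, 151, 157, 199, 211, 223, 229, 241, 281, 337, 349, 373, 467, 521, 677, 751, 821, 859, 883, 907, 929, 971, 1103, 1109, 1249, 1571, 1657, 1723, 1789, 1861, 1979, 2143, 2207, 2293, 2377, 2393, 2579, 2621, 2741, 2857, 3083, 3209, 3469, 3547, 3929]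

theorem prime_of_mem : ∀ p ∈ primes, Nat.Prime p := by
  intro p hp
  simp only [primes, List.mem_cons, List.not_mem_nil, or_false] at hp
  rcases hp with rfl | rfl | rfl | rfl | rfl | rfl | rfl | rfl | rfl | rfl | rfl | rfl | rfl | rfl | rfl | rfl | rfl | rfl | rfl | rfl | rfl | rfl | rfl | rfl | rfl | rfl | rfl | rfl | rfl | rfl | rfl | rfl | rfl | rfl | rfl | rfl | rfl | rfl | rfl | rfl | rfl | rfl | rfl | rfl | rfl | rfl | rfl | rfl | rfl | rfl | rfl | rfl | rfl | rfl | rfl | rfl | rfl | rfl | rfl | rfl | rfl | rfl | rfl | rfl | rfl | rfl | rfl | rfl <;> norm_num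

end CfsgLib.SuzukiThreeCC.Sieve
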