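import Cfsg.Agent.Lib.Recog.SuzukiThreeCC.Fam
import Cfsg.Agent.Lib.Recog.SuzukiThreeCC.Comb
import Mathlib.Tactic.LinearCombination

/-!
# The coefficient vectors of the three vanishing generalized characters

For three mutually apart self-centralizing subgroups of normalizer indices `2, 4, 4`: apart from the exceptional
families and the trivial character at most three irreducible characters fail to vanish on all three subgroups.
-/

set_option autoImplicit false
set_option linter.all false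

namespace CfsgLib.SuzukiThreeCC

open CfsgLib.Char CfsgLib.CA
open scoped ComplexConjugate Classical

variable {G : Type*} [Group G] [Fintype G]

/-- No nontrivial element of `A` is conjugate into `B`. -/
def Apart (A B : Subgroup G) : Prop := ∀ g : G, ∀ a ∈ A, a ≠ 1 → g * a * g⁻¹ ∉ B

theorem Apart.symm {A B : Subgroup G} (h : Apart A B) : Apart B A := fun g b hb hb1 hmem =>
  h g⁻¹ _ hmem (fun e => hb1 (conj_eq_one_iff.mp e)) (by simpa [mul_assoc] using hb)

/-- Functions induced from apart subgroups and vanishing at the identity have disjoint supports. -/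
theorem Apart.classInner_indFun_eq_zero {A B : Subgroup G} (h : Apart A B) {f : A → ℂ} {f' : B → ℂ}
    (hf : f 1 = 0) (hf' : f' 1 = 0) : Cfsg.classInner (Cfsg.indFun A f) (Cfsg.indFun B f') = 0 := by
  rw [Cfsg.classInner, Finset.sum_eq_zero, mul_zero]
  intro y _
  by_cases hy : ∃ x : G, x⁻¹ * y * x ∈ A ∧ x⁻¹ * y * x ≠ 1
  · obtain ⟨x, hxA, hx1⟩ := hy
    rw [CfsgLib.CA.indFun_eq_zero (A := B) hf' (fun x' hx' => ?_), map_zero, mul_zero]
    by_contra hne
    refine h (x'⁻¹ * x) _ hxA hx1 ?_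
    rw [show x'⁻¹ * x * (x⁻¹ * y * x) * (x'⁻¹ * x)⁻¹ = x'⁻¹ * y * x' by group]
    exact hx'
  · rw [CfsgLib.CA.indFun_eq_zero (A := A) hf (fun x hx => ?_), zero_mul]
    by_contra hne
    exact hy ⟨x, hx, hne⟩

variable {A : Subgroup G}

theorem sgn_cases (F : Fam A) : F.sgn = 1 ∨ F.sgn = -1 := mul_self_eq_one_iff.mp F.sgn_sq

/-- The coefficient of `χ` in `ind (1 - r z)`. -/
noncomputable def coef (hA : SelfCent A) (F : Fam A) (χ : Cfsg.IrrCharacter G) : ℤ :=
  (IsGen.exists_classInner_eq_intCast (psi_gen hA F) (IsGen.of_irr χ.2)).choose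

theorem coef_spec (hA : SelfCent A) (F : Fam A) (χ : Cfsg.IrrCharacter G) :
    Cfsg.classInner (psi hA F) (χ : G → ℂ) = (coef hA F χ : ℂ) :=
  (IsGen.exists_classInner_eq_intCast (psi_gen hA F) (IsGen.of_irr χ.2)).choose_spec

variable (hA : SelfCent A) (F : Fam A)

theorem coef_triv : coef hA F (trivChar G) = 1 := by
  have h := coef_spec hA F (trivChar G)
  rw [psi_triv hA F] at h
  exact_mod_cast h.symm

theorem coef_sq [Fintype (Cfsg.IrrCharacter G)] :
    ∑ χ, coef hA F χ * coef hA F χ = (A.relIndex (Subgroup.normalizer (A : Set G)) : ℤ) + 1 := by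
  have h := classInner_eq_sum (IsGen.isClassFunction (psi_gen hA F)) (psi hA F)
  rw [psi_inner_self hA F] at h
  simp only [coef_spec, map_intCast] at h
  exact_mod_cast h.symm

theorem coef_orth [Fintype (Cfsg.IrrCharacter G)] {B : Subgroup G} (hB : SelfCent B) (F' : Fam B)
    (hap : Apart A B) : ∑ χ, coef hA F χ * coef hB F' χ = 0 := by
  have h := classInner_eq_sum (IsGen.isClassFunction (psi_gen hA F)) (psi hB F')
  rw [show Cfsg.classInner (psi hA F) (psi hB F') = 0 from
    hap.classInner_indFun_eq_zero (base_one hA F) (base_one hB F')] at h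
  simp only [coef_spec, map_intCast] at h
  exact_mod_cast h.symm

/-- The coefficient is constant on the own family, away from one member. -/
theorem coef_own {j : Fin F.n} (hj : j ≠ F.z) :
    coef hA F (F.θ F.z) = coef hA F (F.θ j) - F.sgn := by
  have h := psi_tau hA F hj
  rw [F.rel, classInner_smul_right, classInner_sub_right, coef_spec, coef_spec, map_intCast] at h
  have h' : F.sgn * (coef hA F (F.θ j) - coef hA F (F.θ F.z)) = 1 := by exact_mod_cast h
  rcases sgn_cases F with e | e <;> rw [e] at h' ⊢ <;> omega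

/-- The coefficient is constant on the family of an apart subgroup. -/
theorem coef_other {B : Subgroup G} (hB : SelfCent B) (F' : Fam B) (hap : Apart A B) (j : Fin F'.n) :
    coef hA F (F'.θ j) = coef hA F (F'.θ F'.z) := by
  have h : Cfsg.classInner (psi hA F) (Cfsg.indFun B ((F'.r j : B → ℂ) - (F'.r F'.z : B → ℂ))) = 0 :=
    hap.classInner_indFun_eq_zero (base_one hA F) (diff_one hB F' j)
  rw [F'.rel, classInner_smul_right, classInner_sub_right, coef_spec, coef_spec, map_intCast] at h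
  have h' : F'.sgn * (coef hA F (F'.θ j) - coef hA F (F'.θ F'.z)) = 0 := by exact_mod_cast h
  rcases sgn_cases F' with e | e <;> rw [e] at h' <;> omega

theorem diff_orth {B : Subgroup G} (hB : SelfCent B) (F' : Fam B) (hap : Apart A B)
    (hAs : SelfCent A) (a : Fin F.n) (c : Fin F'.n) :
    (if F.θ a = F'.θ c then (1 : ℤ) else 0) - (if F.θ a = F'.θ F'.z then 1 else 0) -
      ((if F.θ F.z = F'.θ c then 1 else 0) - (if F.θ F.z = F'.θ F'.z then 1 else 0)) = 0 := by
  have h : Cfsg.classInner (Cfsg.indFun A ((F.r a : A → ℂ) - (F.r F.z : A → ℂ)))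
      (Cfsg.indFun B ((F'.r c : B → ℂ) - (F'.r F'.z : B → ℂ))) = 0 :=
    hap.classInner_indFun_eq_zero (diff_one hAs F a) (diff_one hB F' c)
  rw [F.rel, F'.rel, classInner_smul_left, classInner_smul_right, classInner_sub_left, classInner_sub_right,
    classInner_sub_right, classInner_irr, classInner_irr, classInner_irr, classInner_irr] at h
  have h1 : (F.sgn : ℂ) ≠ 0 := by rcases sgn_cases F with e | e <;> rw [e] <;> norm_num
  have h2 : conj (F'.sgn : ℂ) ≠ 0 := by rcases sgn_cases F' with e | e <;> rw [e] <;> norm_num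
  simp only [mul_eq_zero, h1, h2, false_or] at h
  exact_mod_cast h

/-- The members of a family, as a finset. -/
noncomputable def members : Finset (Cfsg.IrrCharacter G) := Finset.univ.image F.θ

theorem card_members : (members F).card = F.n := by
  rw [members, Finset.card_image_of_injective _ F.θ_inj, Finset.card_univ, Fintype.card_fin]

theorem exists_ne_member (a : Fin F.n) : ∃ b : Fin F.n, b ≠ a :=
  Fintype.exists_ne_of_one_lt_card (by rw [Fintype.card_fin]; exact F.two_le) a

theorem disjoint_members {B : Subgroup G} (hB : SelfCent B) (F' : Fam B) (hap : Apart A B)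
    (hAs : SelfCent A) : Disjoint (members F) (members F') := by
  rw [Finset.disjoint_left]
  intro χ h1 h2
  obtain ⟨a, -, rfl⟩ := Finset.mem_image.mp h1
  obtain ⟨c, -, hc⟩ := Finset.mem_image.mp h2
  obtain ⟨b, hb⟩ := exists_ne_member F a
  obtain ⟨d, hd⟩ := exists_ne_member F' c
  have e1 := diff_orth F hB F' hap hAs a c
  have e2 := diff_orth F hB F' hap hAs a d
  have e3 := diff_orth F hB F' hap hAs b c
  have e4 := diff_orth F hB F' hap hAs b d
  have hac : (if F.θ a = F'.θ c then (1 : ℤ) else 0) = 1 := if_pos hc.symm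
  have had : (if F.θ a = F'.θ d then (1 : ℤ) else 0) = 0 :=
    if_neg fun e => hd (F'.θ_inj (e.symm.trans hc.symm))
  have hbc : (if F.θ b = F'.θ c then (1 : ℤ) else 0) = 0 :=
    if_neg fun e => hb (F.θ_inj (e.trans hc))
  have hbd : 0 ≤ (if F.θ b = F'.θ d then (1 : ℤ) else 0) := by split_ifs <;> norm_num
  omega

theorem triv_not_mem (hAs : SelfCent A) : trivChar G ∉ members F := by
  intro h
  obtain ⟨a, -, ha⟩ := Finset.mem_image.mp h
  obtain ⟨b, hb⟩ := exists_ne_member F a
  have key : ∀ j, Cfsg.classInner (F.θ j : G → ℂ) (trivChar G : G → ℂ) =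
      Cfsg.classInner (F.θ F.z : G → ℂ) (trivChar G : G → ℂ) := fun j => by
    have h : Cfsg.classInner (Cfsg.indFun A ((F.r j : A → ℂ) - (F.r F.z : A → ℂ))) (trivChar G : G → ℂ) = 0 := by
      rw [frobenius_reciprocity A _ (IsIrr.isClassFunction (trivChar G).2), classInner_sub_left]
      simp only [trivChar_apply]
      rw [classInner_triv_right _ (F.r_ne j), classInner_triv_right _ (F.r_ne F.z), sub_zero]
    rw [F.rel, classInner_smul_left, classInner_sub_left] at h
    have h1 : (F.sgn : ℂ) ≠ 0 := by rcases sgn_cases F with e | e <;> rw [e] <;> norm_num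
    exact sub_eq_zero.mp ((mul_eq_zero.mp h).resolve_left h1)
  have h2 := (key a).trans (key b).symm
  rw [classInner_irr, classInner_irr, if_pos ha, if_neg fun e => hb (F.θ_inj (e.trans ha.symm))] at h2
  exact one_ne_zero h2

/-- Where coefficient and family are avoided, the character vanishes on the subgroup. -/
theorem vanish_of_coef (χ : Cfsg.IrrCharacter G) (hmem : χ ∉ members F) (h0 : coef hA F χ = 0) {a : A}
    (ha : a ≠ 1) : (χ : G → ℂ) a = 0 := by
  rw [apply_eq_psi hA F χ (fun j e => hmem (Finset.mem_image.mpr ⟨j, Finset.mem_univ _, e.symm⟩)) ha,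
    coef_spec, h0, Int.cast_zero, map_zero]

/-- The shape of a family for `CfsgLib.SuzukiThreeCC.Shape`. -/
theorem fam_shape {B C : Subgroup G} (hB : SelfCent B) (FB : Fam B) (hC : SelfCent C) (FC : Fam C)
    (hab : Apart B A) (hac : Apart C A) :
    ∃ z ∈ members F, ∃ a b c ε : ℤ, (ε = 1 ∨ ε = -1) ∧
      (∀ x ∈ members F, coef hB FB x = b ∧ coef hC FC x = c) ∧
      (∀ x ∈ members F, x ≠ z → coef hA F x = a) ∧ coef hA F z = a - ε := by
  obtain ⟨j, hj⟩ := exists_ne_member F F.z
  refine ⟨F.θ F.z, Finset.mem_image.mpr ⟨_, Finset.mem_univ _, rfl⟩, coef hA F (F.θ j),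
    coef hB FB (F.θ F.z), coef hC FC (F.θ F.z), F.sgn, sgn_cases F, fun x hx => ?_, fun x hx hne => ?_,
    coef_own hA F hj⟩
  · obtain ⟨k, -, rfl⟩ := Finset.mem_image.mp hx
    exact ⟨coef_other hB FB hA F hab k, coef_other hC FC hA F hac k⟩
  · obtain ⟨k, -, rfl⟩ := Finset.mem_image.mp hx
    have hk : k ≠ F.z := fun e => hne (by rw [e])
    have h1 := coef_own hA F hj
    have h2 := coef_own hA F hk
    omega

/-- **At most three further characters.** All but `|F₁| + |F₂| + |F₃| + 4` irreducible characters vanish on all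
three subgroups. -/
theorem exists_small_support {A₁ A₂ A₃ : Subgroup G} (h₁ : SelfCent A₁) (h₂ : SelfCent A₂) (h₃ : SelfCent A₃)
    (F₁ : Fam A₁) (F₂ : Fam A₂) (F₃ : Fam A₃) (a₁₂ : Apart A₁ A₂) (a₁₃ : Apart A₁ A₃) (a₂₃ : Apart A₂ A₃)
    (e₁ : A₁.relIndex (Subgroup.normalizer (A₁ : Set G)) = 2)
    (e₂ : A₂.relIndex (Subgroup.normalizer (A₂ : Set G)) = 4)
    (e₃ : A₃.relIndex (Subgroup.normalizer (A₃ : Set G)) = 4) [Fintype (Cfsg.IrrCharacter G)] :
    ∃ E : Finset (Cfsg.IrrCharacter G), trivChar G ∈ E ∧ E.card ≤ F₁.n + F₂.n + F₃.n + 4 ∧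
      ∀ χ, χ ∉ E → (∀ a : A₁, a ≠ 1 → (χ : G → ℂ) a = 0) ∧ (∀ a : A₂, a ≠ 1 → (χ : G → ℂ) a = 0) ∧
        ∀ a : A₃, a ≠ 1 → (χ : G → ℂ) a = 0 := by
  have hS : Shape (coef h₁ F₁) (coef h₂ F₂) (coef h₃ F₃) (trivChar G) (members F₁) (members F₂) (members F₃) :=
    { one₁ := coef_triv h₁ F₁
      one₂ := coef_triv h₂ F₂
      one₃ := coef_triv h₃ F₃
      norm₁ := by rw [coef_sq h₁ F₁, e₁]; norm_num
      norm₂ := by rw [coef_sq h₂ F₂, e₂]; norm_num
      norm₃ := by rw [coef_sq h₃ F₃, e₃]; norm_num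
      orth₁₂ := coef_orth h₁ F₁ h₂ F₂ a₁₂
      orth₁₃ := coef_orth h₁ F₁ h₃ F₃ a₁₃
      orth₂₃ := coef_orth h₂ F₂ h₃ F₃ a₂₃
      not_mem₁ := triv_not_mem F₁ h₁
      not_mem₂ := triv_not_mem F₂ h₂
      not_mem₃ := triv_not_mem F₃ h₃
      disj₁₂ := disjoint_members F₁ h₂ F₂ a₁₂ h₁
      disj₁₃ := disjoint_members F₁ h₃ F₃ a₁₃ h₁
      disj₂₃ := disjoint_members F₂ h₃ F₃ a₂₃ h₂
      two_le₁ := (card_members F₁).symm ▸ F₁.two_le
      two_le₂ := (card_members F₂).symm ▸ F₂.two_le
      two_le₃ := (card_members F₃).symm ▸ F₃.two_le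
      fam₁ := fam_shape h₁ F₁ h₂ F₂ h₃ F₃ a₁₂.symm a₁₃.symm
      fam₂ := by
        obtain ⟨z, hz, a, b, c, ε, hε, h1, h2, h3⟩ := fam_shape h₂ F₂ h₁ F₁ h₃ F₃ a₁₂ a₂₃.symm
        exact ⟨z, hz, b, a, c, ε, hε, h1, h2, h3⟩
      fam₃ := by
        obtain ⟨z, hz, a, b, c, ε, hε, h1, h2, h3⟩ := fam_shape h₃ F₃ h₁ F₁ h₂ F₂ a₁₃ a₂₃
        exact ⟨z, hz, b, c, a, ε, hε, h1, h2, h3⟩ }
  have hcard := hS.card_others
  set O := Finset.univ.filter fun x => x ∉ insert (trivChar G) (members F₁ ∪ members F₂ ∪ members F₃) ∧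
    (coef h₁ F₁ x ≠ 0 ∨ coef h₂ F₂ x ≠ 0 ∨ coef h₃ F₃ x ≠ 0) with hO
  refine ⟨insert (trivChar G) (members F₁ ∪ members F₂ ∪ members F₃) ∪ O, by simp, ?_, fun χ hχ => ?_⟩
  · have h1 := Finset.card_union_le (insert (trivChar G) (members F₁ ∪ members F₂ ∪ members F₃)) O
    have h2 := Finset.card_insert_le (trivChar G) (members F₁ ∪ members F₂ ∪ members F₃)
    have h3 := Finset.card_union_le (members F₁ ∪ members F₂) (members F₃)
    have h4 := Finset.card_union_le (members F₁) (members F₂)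
    rw [card_members, card_members] at h4
    rw [card_members] at h3
    omega
  · rw [Finset.mem_union, not_or] at hχ
    have hin := hχ.2
    simp only [hO, Finset.mem_filter, Finset.mem_univ, true_and, not_and] at hin
    have hzero := hin hχ.1
    push Not at hzero
    have hm := hχ.1
    simp only [Finset.mem_insert, Finset.mem_union, not_or] at hm
    exact ⟨fun a => vanish_of_coef h₁ F₁ χ hm.2.1.1 hzero.1, fun a => vanish_of_coef h₂ F₂ χ hm.2.1.2 hzero.2.1,
      fun a => vanish_of_coef h₃ F₃ χ hm.2.2 hzero.2.2⟩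

end CfsgLib.SuzukiThreeCC
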